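import Mathlib
import Cfsg.Agent.Lib.Unitary.Witt

/-!
Unitary groups over the field of four elements: transvections, products on a totally isotropic
line, and the decomposition of involutions into commuting transvections.
-/

set_option autoImplicit false
set_option linter.unusedSectionVars false
set_option linter.style.haveILetI false

namespace Cfsg.Agent.Lib.UnitaryFour.Transvection

open Matrix Module Cfsg.Agent.Lib.Unitary

variable {F : Type*} [Field F] [Fintype F] {n : ℕ}

theorem two_eq_zero (hF : Fintype.card F = 2 ^ 2) : (2 : F) = 0 := by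
  obtain ⟨⟨p, hp⟩, k, hpp, -, hk⟩ : Nonempty {p // CharP F p} ∧ ∃ k : ℕ+, (ringChar F).Prime ∧ True ∧
      Fintype.card F = ringChar F ^ (k : ℕ) := by
    obtain ⟨m, h1, h2⟩ := FiniteField.card F (ringChar F)
    exact ⟨⟨⟨ringChar F, inferInstance⟩⟩, m, h1, trivial, h2⟩
  have h2 : ringChar F = 2 :=
    (Nat.prime_dvd_prime_iff_eq hpp Nat.prime_two).mp
      (hpp.dvd_of_dvd_pow (n := 2) (by rw [← hF, hk]; exact dvd_pow_self _ k.pos.ne'))
  have : ((ringChar F : ℕ) : F) = 0 := ringChar.Nat.cast_ringChar
  rw [h2] at this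
  exact_mod_cast this

theorem add_self_zero (hF : Fintype.card F = 2 ^ 2) {V : Type*} [AddCommGroup V] [Module F V] (x : V) :
    x + x = 0 := by rw [← two_smul F, two_eq_zero hF, zero_smul]

theorem cube_eq_one (hF : Fintype.card F = 2 ^ 2) {a : F} (ha : a ≠ 0) : a ^ 3 = 1 := by
  have := FiniteField.pow_card_sub_one_eq_one a ha
  rwa [hF] at this

theorem norm_eq_one (hF : Fintype.card F = 2 ^ 2) {a : F} (ha : a ≠ 0) : a * a ^ 2 = 1 := by
  rw [← cube_eq_one hF ha]; ring

/-- a primitive cube root of unity -/
theorem exists_omega (hF : Fintype.card F = 2 ^ 2) : ∃ w : F, w ≠ 0 ∧ w ≠ 1 ∧ w ^ 2 + w + 1 = 0 := by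
  classical
  obtain ⟨w, -, hw⟩ := Finset.exists_mem_notMem_of_card_lt_card (s := ({0, 1} : Finset F))
    (t := Finset.univ) (by
      refine lt_of_le_of_lt Finset.card_le_two ?_
      rw [Finset.card_univ, hF]; norm_num)
  simp only [Finset.mem_insert, Finset.mem_singleton, not_or] at hw
  refine ⟨w, hw.1, hw.2, ?_⟩
  have h : (w - 1) * (w ^ 2 + w + 1) = 0 := by linear_combination cube_eq_one hF hw.1
  exact (mul_eq_zero.mp h).resolve_left (sub_ne_zero.mpr hw.2)

/-- the matrix of `u ↦ u + h(u,w) w` -/
def tvMat (w : Fin n → F) : Matrix (Fin n) (Fin n) F := rk1 2 1 w w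

theorem tvMat_mulVec (w v : Fin n → F) : tvMat w *ᵥ v = v + hermForm n F 2 v w • w := by
  rw [tvMat, rk1_mulVec, one_mul]

theorem tvMat_preserving (hF : Fintype.card F = 2 ^ 2) {w : Fin n → F} (hw : hermForm n F 2 w w = 0)
    (u v : Fin n → F) :
    hermForm n F 2 (tvMat w *ᵥ u) (tvMat w *ᵥ v) = hermForm n F 2 u v := by
  simp only [tvMat_mulVec, herm_add_left, herm_add_right _ _ _ hF, herm_smul_left, herm_smul_right,
    hw, mul_zero, herm_conj v w hF, add_zero]
  linear_combination (hermForm n F 2 u w * hermForm n F 2 w v) * two_eq_zero hF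

/-- the transvection with isotropic centre `w`, as an element of `SU` -/
def tv (hF : Fintype.card F = 2 ^ 2) (w : Fin n → F) (hw : hermForm n F 2 w w = 0) :
    SU n F 2 :=
  ⟨⟨tvMat w, by rw [tvMat, rk1_det, hw, mul_zero, add_zero]⟩, fun u v => tvMat_preserving hF hw u v⟩

/-- the action of an element of `SU` on vectors -/
def act (g : SU n F 2) (v : Fin n → F) : Fin n → F := g.1.1 *ᵥ v

theorem act_def (g : SU n F 2) (v : Fin n → F) : act g v = g.1.1 *ᵥ v := rfl

theorem act_mul (g h : SU n F 2) (v : Fin n → F) : act (g * h) v = act g (act h v) := by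
  simp [act, Matrix.mulVec_mulVec]

theorem act_one (v : Fin n → F) : act (1 : SU n F 2) v = v := by simp [act]

theorem act_add (g : SU n F 2) (u v : Fin n → F) : act g (u + v) = act g u + act g v :=
  Matrix.mulVec_add _ _ _

theorem act_smul (g : SU n F 2) (a : F) (v : Fin n → F) : act g (a • v) = a • act g v :=
  Matrix.mulVec_smul _ _ _

theorem act_herm (g : SU n F 2) (u v : Fin n → F) :
    hermForm n F 2 (act g u) (act g v) = hermForm n F 2 u v := g.2 u v

theorem ext' {g h : SU n F 2} (H : ∀ v, act g v = act h v) : g = h :=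
  Subtype.ext (Subtype.ext (Matrix.toLin'.injective (LinearMap.ext fun v => by simpa [act] using H v)))

theorem act_inv_self (g : SU n F 2) (v : Fin n → F) : act g⁻¹ (act g v) = v := by
  rw [← act_mul, inv_mul_cancel, act_one]

theorem act_tv (hF : Fintype.card F = 2 ^ 2) {w : Fin n → F} (hw : hermForm n F 2 w w = 0)
    (v : Fin n → F) : act (tv hF w hw) v = v + hermForm n F 2 v w • w := tvMat_mulVec w v

theorem tv_zero (hF : Fintype.card F = 2 ^ 2) (hw : hermForm n F 2 (0 : Fin n → F) 0 = 0) :
    tv hF 0 hw = 1 := ext' fun v => by rw [act_tv, act_one, smul_zero, add_zero]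

theorem tv_mul_self (hF : Fintype.card F = 2 ^ 2) {w : Fin n → F} (hw : hermForm n F 2 w w = 0) :
    tv hF w hw * tv hF w hw = 1 := by
  refine ext' fun v => ?_
  rw [act_mul, act_tv, act_tv, act_one, herm_add_left, herm_smul_left, hw, mul_zero, add_zero,
    add_assoc, add_self_zero hF, add_zero]

theorem tv_comm (hF : Fintype.card F = 2 ^ 2) {v w : Fin n → F} (hv : hermForm n F 2 v v = 0)
    (hw : hermForm n F 2 w w = 0) (hvw : hermForm n F 2 v w = 0) :
    Commute (tv hF v hv) (tv hF w hw) := by
  refine ext' fun u => ?_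
  simp only [act_mul, act_tv, herm_add_left, herm_smul_left, hvw, herm_eq_zero_symm hF hvw, mul_zero,
    add_zero]
  abel

theorem tv_smul (hF : Fintype.card F = 2 ^ 2) {w : Fin n → F} (hw : hermForm n F 2 w w = 0) {a : F}
    (ha : a ≠ 0) (haw : hermForm n F 2 (a • w) (a • w) = 0) : tv hF (a • w) haw = tv hF w hw := by
  refine ext' fun u => ?_
  rw [act_tv, act_tv, herm_smul_right, smul_smul]
  congr 2
  linear_combination hermForm n F 2 u w * norm_eq_one hF ha

theorem tv_conj (hF : Fintype.card F = 2 ^ 2) (g : SU n F 2) {w : Fin n → F}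
    (hw : hermForm n F 2 w w = 0) (hgw : hermForm n F 2 (act g w) (act g w) = 0) :
    tv hF (act g w) hgw = g * tv hF w hw * g⁻¹ := by
  refine ext' fun u => ?_
  have hu : act g (act g⁻¹ u) = u := by rw [← act_mul, mul_inv_cancel, act_one]
  rw [act_mul, act_mul, act_tv, act_tv, act_add, act_smul, hu]
  congr 2
  conv_lhs => rw [← hu, act_herm]

theorem tv_eq_of_eq (hF : Fintype.card F = 2 ^ 2) {v w : Fin n → F} (h : v = w)
    (hv : hermForm n F 2 v v = 0) (hw : hermForm n F 2 w w = 0) : tv hF v hv = tv hF w hw := by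
  subst h; rfl

theorem herm_line (hF : Fintype.card F = 2 ^ 2) {e f : Fin n → F} (he : hermForm n F 2 e e = 0)
    (hf : hermForm n F 2 f f = 0) (hef : hermForm n F 2 e f = 0) (a : F) :
    hermForm n F 2 (e + a • f) (e + a • f) = 0 := by
  simp [herm_add_left, herm_add_right _ _ _ hF, herm_smul_left, herm_smul_right, he, hf, hef,
    herm_eq_zero_symm hF hef]

/-- the five transvections with centres on a totally isotropic line multiply to one -/
theorem tv_line (hF : Fintype.card F = 2 ^ 2) {e f : Fin n → F} (he : hermForm n F 2 e e = 0)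
    (hf : hermForm n F 2 f f = 0) (hef : hermForm n F 2 e f = 0) {o : F} (ho : o ^ 2 + o + 1 = 0) :
    tv hF f hf * (tv hF e he * (tv hF (e + (1 : F) • f) (herm_line hF he hf hef 1) *
      (tv hF (e + o • f) (herm_line hF he hf hef o) *
        tv hF (e + (o + 1) • f) (herm_line hF he hf hef (o + 1))))) = 1 := by
  refine ext' fun u => ?_
  have h2 := two_eq_zero hF
  simp only [act_mul, act_tv, act_one, herm_add_left, herm_add_right _ _ _ hF, herm_smul_left,
    herm_smul_right, he, hf, hef, herm_eq_zero_symm hF hef, mul_zero, add_zero, one_pow, one_mul]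
  generalize hermForm n F 2 u e = A
  generalize hermForm n F 2 u f = B
  ext i
  simp only [Pi.add_apply, Pi.smul_apply, smul_eq_mul]
  generalize e i = x
  generalize f i = y
  generalize u i = z
  have ho3 : o ^ 3 = 1 := by linear_combination (o - 1) * ho
  linear_combination (2 * A * x + 2 * B * y + B * x + A * y * o + A * y + B * y * o + 2 * B * y) * h2
    + (2 * B * x + 2 * B * y * o + B * y) * ho + (-(o * B * y) - B * x - 3 * (B * y)) * h2 - (0 : F) * ho3

/-- isotropic vectors span -/
theorem single_mem_span (hF : Fintype.card F = 2 ^ 2) (hn : 2 ≤ n) (j : Fin n) :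
    Pi.single j (1 : F) ∈ Submodule.span F {v : Fin n → F | hermForm n F 2 v v = 0} := by
  obtain ⟨o, ho0, ho1, ho⟩ := exists_omega hF
  haveI : Nontrivial (Fin n) := Fin.nontrivial_iff_two_le.mpr hn
  obtain ⟨i, hij⟩ := exists_ne j
  have hd : ∀ a : F, a ≠ 0 → (Pi.single i 1 + a • Pi.single j 1 : Fin n → F) ∈
      {v : Fin n → F | hermForm n F 2 v v = 0} := by
    intro a ha
    simp only [Set.mem_ofPred_eq, herm_add_left, herm_add_right _ _ _ hF, herm_smul_left,
      herm_smul_right, herm_std hF, if_true, if_neg hij, if_neg hij.symm, mul_zero, mul_one, add_zero,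
      zero_add]
    linear_combination norm_eq_one hF ha + two_eq_zero hF
  have hmem := Submodule.sub_mem _ (Submodule.subset_span (R := F) (hd o ho0))
    (Submodule.subset_span (R := F) (hd 1 one_ne_zero))
  have : (o - 1)⁻¹ • ((Pi.single i 1 + o • Pi.single j 1) - (Pi.single i 1 + (1 : F) • Pi.single j 1))
      = (Pi.single j 1 : Fin n → F) := by
    rw [add_sub_add_left_eq_sub, ← sub_smul, smul_smul, inv_mul_cancel₀ (sub_ne_zero.mpr ho1), one_smul]
  rw [← this]
  exact Submodule.smul_mem _ _ hmem

/-- the nilpotent part -/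
def nil (t : SU n F 2) (v : Fin n → F) : Fin n → F := act t v + v

theorem act_eq_nil (hF : Fintype.card F = 2 ^ 2) (t : SU n F 2) (v : Fin n → F) :
    act t v = v + nil t v := by
  rw [nil, add_comm (act t v), ← add_assoc, add_self_zero hF, zero_add]

theorem eq_one_of_nil (hF : Fintype.card F = 2 ^ 2) {t : SU n F 2} (h : ∀ v, nil t v = 0) : t = 1 :=
  ext' fun v => by rw [act_eq_nil hF, h, add_zero, act_one]

theorem nil_smul (t : SU n F 2) (a : F) (v : Fin n → F) : nil t (a • v) = a • nil t v := by
  rw [nil, nil, act_smul, smul_add]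

theorem nil_add (t : SU n F 2) (u v : Fin n → F) : nil t (u + v) = nil t u + nil t v := by
  rw [nil, nil, nil, act_add]; abel

theorem herm_nil_left (hF : Fintype.card F = 2 ^ 2) {t : SU n F 2} (ht : t * t = 1)
    (u v : Fin n → F) : hermForm n F 2 (nil t u) v = hermForm n F 2 u (nil t v) := by
  have h : hermForm n F 2 (act t u) v = hermForm n F 2 u (act t v) := by
    conv_rhs => rw [← act_herm t, ← act_mul, ht, act_one]
  rw [nil, nil, herm_add_left, herm_add_right _ _ _ hF, h]

theorem nil_nil (hF : Fintype.card F = 2 ^ 2) {t : SU n F 2} (ht : t * t = 1) (v : Fin n → F) :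
    nil t (nil t v) = 0 := by
  rw [nil, nil, act_add, ← act_mul, ht, act_one, add_comm v, add_self_zero hF]

/-- an involution commuting with all transvections is trivial -/
theorem eq_one_of_comm_tv (hF : Fintype.card F = 2 ^ 2) (hn : 2 ≤ n) {t : SU n F 2} (ht : t * t = 1)
    (hc : ∀ (w : Fin n → F) (hw : hermForm n F 2 w w = 0), Commute t (tv hF w hw)) : t = 1 := by
  have hiso : ∀ w : Fin n → F, hermForm n F 2 w w = 0 → nil t w = 0 := by
    intro w hw
    by_contra hne
    have hw0 : w ≠ 0 := fun h => hne (by rw [h, nil, act_def, Matrix.mulVec_zero, add_zero])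
    obtain ⟨f, hf⟩ := exists_hyp hF hw0 hw
    have hfw : hermForm n F 2 f w = 1 := hf.symm' hF
    have key : nil t (hermForm n F 2 f w • w) = hermForm n F 2 f (nil t w) • w := by
      have h := congrArg (fun g => act g f) (hc w hw).eq
      simp only [act_mul, act_tv, act_add, act_smul] at h
      have h' : hermForm n F 2 f w • act t w = hermForm n F 2 (act t f) w • w := add_left_cancel h
      rw [← herm_nil_left hF ht, nil_smul]
      simp only [nil, smul_add, h', herm_add_left, add_smul]
    rw [hfw, one_smul] at key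
    generalize hermForm n F 2 f (nil t w) = μ at key
    have := nil_nil hF ht w
    rw [key, nil_smul, key, smul_smul, smul_eq_zero] at this
    rcases this with h | h
    · rw [mul_self_eq_zero] at h
      rw [key, h, zero_smul] at hne
      exact hne rfl
    · exact hw0 h
  refine eq_one_of_nil hF fun v => ?_
  have hv : v ∈ Submodule.span F {v : Fin n → F | hermForm n F 2 v v = 0} := by
    rw [show v = ∑ j, v j • Pi.single j (1 : F) by
      ext i; simp [Finset.sum_apply, Pi.single_apply]]
    exact Submodule.sum_mem _ fun j _ => Submodule.smul_mem _ _ (single_mem_span hF hn j)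
  induction hv using Submodule.span_induction with
  | mem x hx => exact hiso x hx
  | zero => rw [nil, act_def, Matrix.mulVec_zero, add_zero]
  | add x y _ _ hx hy => rw [nil_add, hx, hy, add_zero]
  | smul a x _ hx => rw [nil_smul, hx, smul_zero]

/-- every involution is a product of pairwise orthogonal isotropic transvections -/
theorem exists_decomp (hF : Fintype.card F = 2 ^ 2) :
    ∀ (t : SU n F 2), t * t = 1 → ∃ l : List {w : Fin n → F // hermForm n F 2 w w = 0},
      (∀ a ∈ l, ∃ u, nil t u = a.1) ∧ (∀ a ∈ l, ∀ b ∈ l, hermForm n F 2 a.1 b.1 = 0) ∧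
        t = (l.map fun a => tv hF a.1 a.2).prod := by
  classical
  suffices H : ∀ (k : ℕ) (t : SU n F 2), t * t = 1 →
      (Finset.univ.filter fun v : Fin n → F => nil t v ≠ 0).card ≤ k →
      ∃ l : List {w : Fin n → F // hermForm n F 2 w w = 0},
      (∀ a ∈ l, ∃ u, nil t u = a.1) ∧ (∀ a ∈ l, ∀ b ∈ l, hermForm n F 2 a.1 b.1 = 0) ∧
        t = (l.map fun a => tv hF a.1 a.2).prod from fun t ht => H _ t ht le_rfl
  intro k
  induction k with
  | zero =>
    intro t ht hk
    refine ⟨[], by simp, by simp, ?_⟩
    simp only [List.map_nil, List.prod_nil]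
    refine eq_one_of_nil hF fun v => by_contra fun hv => ?_
    exact Finset.notMem_empty v (Finset.card_eq_zero.mp (Nat.le_zero.mp hk) ▸
      Finset.mem_filter.mpr ⟨Finset.mem_univ v, hv⟩)
  | succ k ih =>
    intro t ht hk
    by_cases hall : ∀ v, nil t v = 0
    · exact ⟨[], by simp, by simp, by simpa using eq_one_of_nil hF hall⟩
    push Not at hall
    obtain ⟨u₀, hu₀⟩ := hall
    obtain ⟨v, hv⟩ : ∃ v, hermForm n F 2 (nil t v) v ≠ 0 := by
      by_contra hcon
      push Not at hcon
      refine hu₀ (herm_nondeg_left hF fun y => ?_)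
      refine eq_zero_of_trace_mul_eq_zero hF fun l => ?_
      have h := hcon (l • u₀ + y)
      simp only [nil_add, nil_smul, herm_add_left, herm_add_right _ _ _ hF, herm_smul_left,
        herm_smul_right, hcon, mul_zero, add_zero, zero_add] at h
      rw [herm_nil_left hF ht y u₀, ← herm_conj (nil t u₀) y hF] at h
      linear_combination h
    have hh : ∀ y, hermForm n F 2 (nil t y) (nil t v) = 0 := by
      intro y; rw [herm_nil_left hF ht, nil_nil hF ht, herm_zero_right _ hF]
    have hv1 : hermForm n F 2 (nil t v) v = 1 := by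
      have hfix : hermForm n F 2 (nil t v) v ^ 2 = hermForm n F 2 (nil t v) v := by
        rw [herm_conj (nil t v) v hF, ← herm_nil_left hF ht]
      have h : hermForm n F 2 (nil t v) v * (hermForm n F 2 (nil t v) v - 1) = 0 := by
        linear_combination hfix
      exact sub_eq_zero.mp ((mul_eq_zero.mp h).resolve_left hv)
    have hww : hermForm n F 2 (nil t v) (nil t v) = 0 := hh v
    have hvw : hermForm n F 2 v (nil t v) = 1 := by rw [← herm_nil_left hF ht, hv1]
    let T := tv hF (nil t v) hww
    have hnw : act t (nil t v) = nil t v := by rw [act_eq_nil hF, nil_nil hF ht, add_zero]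
    have hTt : Commute t T := by
      have := tv_conj hF t hww (by rw [hnw]; exact hww)
      rw [tv_eq_of_eq hF hnw (by rw [hnw]; exact hww) hww] at this
      exact (mul_inv_eq_iff_eq_mul.mp this.symm)
    have ht' : t * T * (t * T) = 1 := by
      rw [hTt.symm.mul_mul_mul_comm, ht, tv_mul_self hF, one_mul]
    have hnil : ∀ u, nil (t * T) u = nil t u + hermForm n F 2 u (nil t v) • nil t v := by
      intro u
      rw [nil, act_mul, act_tv, act_add, act_smul, hnw, act_eq_nil hF t u]
      rw [show u + nil t u + hermForm n F 2 u (nil t v) • nil t v + u =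
        (u + u) + (nil t u + hermForm n F 2 u (nil t v) • nil t v) by abel, add_self_zero hF, zero_add]
    obtain ⟨l, hl1, hl2, hl3⟩ := ih (t * T) ht' (by
      refine Nat.le_of_lt_succ (lt_of_lt_of_le (Finset.card_lt_card (Finset.ssubset_iff_of_subset ?_ |>.mpr ?_)) hk)
      · intro u hu
        simp only [Finset.mem_filter, Finset.mem_univ, true_and] at hu ⊢
        intro h
        refine hu ?_
        rw [hnil, h, ← herm_nil_left hF ht, h, herm_zero_left, zero_smul, add_zero]
      · refine ⟨v, Finset.mem_filter.mpr ⟨Finset.mem_univ _, fun h => ?_⟩, fun h => ?_⟩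
        · rw [h, herm_zero_left] at hv; exact hv rfl
        · refine (Finset.mem_filter.mp h).2 ?_
          rw [hnil, hvw, one_smul, add_self_zero hF])
    have hr : ∀ a ∈ l, ∃ u, nil t u = a.1 := by
      intro a ha
      obtain ⟨u, hu⟩ := hl1 a ha
      refine ⟨u + hermForm n F 2 u (nil t v) • v, ?_⟩
      rw [← hu, hnil, nil_add, nil_smul]
    refine ⟨l ++ [⟨nil t v, hww⟩], ?_, ?_, ?_⟩
    · intro a ha
      rcases List.mem_append.mp ha with h | h
      · exact hr a h
      · rw [List.mem_singleton.mp h]; exact ⟨v, rfl⟩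
    · intro a ha b hb
      have : ∀ x ∈ l ++ [(⟨nil t v, hww⟩ : {w : Fin n → F // hermForm n F 2 w w = 0})], ∃ u, nil t u = x.1 := by
        intro x hx
        rcases List.mem_append.mp hx with h | h
        · exact hr x h
        · rw [List.mem_singleton.mp h]; exact ⟨v, rfl⟩
      obtain ⟨u, hu⟩ := this a ha
      obtain ⟨u', hu'⟩ := this b hb
      rw [← hu, ← hu', herm_nil_left hF ht, nil_nil hF ht, herm_zero_right _ hF]
    · rw [List.map_append, List.prod_append, ← hl3, List.map_singleton, List.prod_singleton]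
      show t = t * T * T
      rw [mul_assoc, tv_mul_self hF, mul_one]

end Cfsg.Agent.Lib.UnitaryFour.Transvection
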