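import Mathlib
import Cfsg.Agent.Lib.UnitaryFour.Transvection
import Cfsg.Agent.Lib.Unitary.Simple

/-!
Transvection images in quotients of SU(6,2) by central subgroups: equality and commutation, a
3-transposition set consists of transvection images, lines through traces.
-/

set_option autoImplicit false
set_option linter.unusedSectionVars false
set_option linter.style.haveILetI false

namespace Cfsg.Agent.Lib.UnitaryFour.Classes

open Matrix Module Cfsg.Agent.Lib.Unitary Cfsg.Agent.Lib.UnitaryFour.Transvection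

variable {F : Type*} [Field F] [Fintype F]

local notation "h⟪" u ", " v "⟫" => hermForm 6 F 2 u v

/-- vectors orthogonal to an independent orthogonal isotropic pair and its partners -/
theorem exists_frame (hF : Fintype.card F = 2 ^ 2) {e s : Fin 6 → F} (hli : LinearIndependent F ![e, s])
    (he : h⟪e, e⟫ = 0) (hs : h⟪s, s⟫ = 0) (hes : h⟪e, s⟫ = 0) :
    ∃ (f t : Fin 6 → F) (g : Fin 2 → Fin 6 → F), Hyp 2 e f ∧ Hyp 2 s t ∧ h⟪f, s⟫ = 0 ∧ h⟪t, e⟫ = 0 ∧
      h⟪t, f⟫ = 0 ∧ Orthonormal' 2 g ∧ (∀ i, h⟪g i, e⟫ = 0 ∧ h⟪g i, f⟫ = 0 ∧ h⟪g i, s⟫ = 0 ∧ h⟪g i, t⟫ = 0) ∧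
      LinearIndependent F (Sum.elim ![e, f, s, t] g) := by
  obtain ⟨f, t, hef, hst, hfs, hte, htf⟩ := exists_double_hyp hF hli he hs hes
  set b : Fin 4 → Fin 6 → F := ![e, f, s, t]
  have hco : ∀ (x : Fin 4 → F) (j : Fin 4), h⟪∑ i, x i • b i, b j⟫ = ![x 1, x 0, x 3, x 2] j := by
    intro x j
    rw [herm_sum_left]
    simp only [herm_smul_left, Fin.sum_univ_four]
    fin_cases j <;>
      simp [b, hef.1, hef.2.1, hef.2.2, hef.symm' hF, hst.1, hst.2.1, hst.2.2, hst.symm' hF,
        hes, herm_eq_zero_symm hF hes, hfs, herm_eq_zero_symm hF hfs, hte,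
        herm_eq_zero_symm hF hte, htf, herm_eq_zero_symm hF htf]
  have hnd : ∀ x : Fin 4 → F, (∀ j, h⟪∑ i, x i • b i, b j⟫ = 0) → x = 0 := by
    intro x hx
    ext i
    fin_cases i
    · simpa [hco] using hx 1
    · simpa [hco] using hx 0
    · simpa [hco] using hx 3
    · simpa [hco] using hx 2
  have hbli : LinearIndependent F b := Fintype.linearIndependent_iff.2 fun x hx i => by
    rw [hnd x fun j => by rw [hx, herm_zero_left]]; rfl
  set W := Submodule.span F (Set.range b)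
  have hW : Nondeg 2 W := by
    intro u hu hv
    obtain ⟨x, rfl⟩ := (Submodule.mem_span_range_iff_exists_fun F).1 hu
    simp [hnd x fun j => hv _ (Submodule.subset_span ⟨j, rfl⟩)]
  have hWk : finrank F W = 4 := by rw [finrank_span_eq_card hbli, Fintype.card_fin]
  have hk : finrank F (perp 2 W) = 2 := by have := finrank_perp hF W; omega
  obtain ⟨g, hg, hgW, -⟩ := exists_orthonormal_of_nondeg hF _ _ hk (nondeg_perp hF hW)
  refine ⟨f, t, g, hef, hst, hfs, hte, htf, hg, fun i => ⟨hgW i _ (Submodule.subset_span ⟨0, rfl⟩),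
    hgW i _ (Submodule.subset_span ⟨1, rfl⟩), hgW i _ (Submodule.subset_span ⟨2, rfl⟩),
    hgW i _ (Submodule.subset_span ⟨3, rfl⟩)⟩, ?_⟩
  refine linearIndependent_sum.2 ⟨hbli, orthonormal_linearIndependent hg, ?_⟩
  simp only [Sum.elim_comp_inl, Sum.elim_comp_inr]
  exact Disjoint.mono le_rfl (Submodule.span_le.2 (Set.range_subset_iff.2 hgW))
    (isCompl_perp hF hW).disjoint

/-- an isotropic vector orthogonal to every isotropic vector of `perp {p, c}` lies on their line -/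
theorem mem_line (hF : Fintype.card F = 2 ^ 2) {p c y : Fin 6 → F} (hli : LinearIndependent F ![p, c])
    (hp : h⟪p, p⟫ = 0) (hc : h⟪c, c⟫ = 0) (hpc : h⟪p, c⟫ = 0) (hyp : h⟪y, p⟫ = 0) (hyc : h⟪y, c⟫ = 0)
    (h : ∀ z, h⟪z, z⟫ = 0 → h⟪z, p⟫ = 0 → (∀ a : F, z ≠ a • p) → h⟪z, c⟫ = 0 → h⟪z, y⟫ = 0) :
    ∃ a b : F, y = a • p + b • c := by
  obtain ⟨f, t, g, hpf, hct, hfc, htp, htf, hg, hgo, hli6⟩ := exists_frame hF hli hp hc hpc
  obtain ⟨o, ho0, ho1, ho⟩ := exists_omega hF
  have hz : ∀ a : F, a ≠ 0 → h⟪g 0 + a • g 1, y⟫ = 0 := by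
    intro a ha
    refine h _ ?_ ?_ ?_ ?_
    · simp [herm_add_left, herm_add_right _ _ _ hF, herm_smul_left, herm_smul_right, hg _ _]
      linear_combination norm_eq_one hF ha + two_eq_zero hF
    · simp [herm_add_left, herm_smul_left, (hgo _).1]
    · intro b hb
      have := congrArg (fun v => h⟪v, g 0⟫) hb
      simp [herm_add_left, herm_smul_left, hg _ _, herm_eq_zero_symm hF (hgo 0).1] at this
    · simp [herm_add_left, herm_smul_left, (hgo _).2.2.1]
  have h1 := hz 1 one_ne_zero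
  have h2 := hz o ho0
  simp only [herm_add_left, herm_smul_left, one_mul] at h1 h2
  have hy1 : h⟪g 1, y⟫ = 0 := by
    have : (o - 1) * h⟪g 1, y⟫ = 0 := by linear_combination h2 - h1
    exact (mul_eq_zero.mp this).resolve_left (sub_ne_zero.mpr ho1)
  have hy0 : h⟪g 0, y⟫ = 0 := by rwa [hy1, add_zero] at h1
  refine ⟨h⟪y, f⟫, h⟪y, t⟫, ?_⟩
  set d := y - (h⟪y, f⟫ • p + h⟪y, t⟫ • c)
  have hspan : ∀ x, h⟪d, x⟫ = 0 := by
    have hb : ∀ j, h⟪d, Sum.elim ![p, f, c, t] g j⟫ = 0 := by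
      rintro (j | j)
      · fin_cases j <;>
          simp [d, herm_sub_left, herm_add_left, herm_smul_left, hp, hc, hpc, herm_eq_zero_symm hF hpc, hyp, hyc,
            hpf.2.2, hct.2.2, herm_eq_zero_symm hF hfc, herm_eq_zero_symm hF htp]
      · fin_cases j <;>
          simp [d, herm_sub_left, herm_add_left, herm_smul_left, herm_eq_zero_symm hF hy0, herm_eq_zero_symm hF hy1,
            herm_eq_zero_symm hF (hgo _).1, herm_eq_zero_symm hF (hgo _).2.2.1]
    intro x
    have htop : Submodule.span F (Set.range (Sum.elim ![p, f, c, t] g)) = ⊤ :=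
      hli6.span_eq_top_of_card_eq_finrank (by simp)
    have hx : x ∈ Submodule.span F (Set.range (Sum.elim ![p, f, c, t] g)) := htop ▸ Submodule.mem_top
    induction hx using Submodule.span_induction with
    | mem u hu => obtain ⟨j, rfl⟩ := hu; exact hb j
    | zero => exact herm_zero_right _ hF
    | add u v _ _ hu hv => rw [herm_add_right _ _ _ hF, hu, hv, add_zero]
    | smul a u _ hu => rw [herm_smul_right, hu, mul_zero]
  exact sub_eq_zero.mp (herm_nondeg_left hF hspan)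

section

variable {Q : Type*} [Group Q] (φ : SU 6 F 2 →* Q)

theorem exists_sq_one_lift (hF : Fintype.card F = 2 ^ 2) (hφ : Function.Surjective φ)
    (hk : φ.ker ≤ Subgroup.center (SU 6 F 2)) (x : Q) (hx : x * x = 1) :
    ∃ t : SU 6 F 2, t * t = 1 ∧ φ t = x := by
  obtain ⟨t₀, rfl⟩ := hφ x
  have hz : t₀ * t₀ ∈ Subgroup.center (SU 6 F 2) := hk (by rw [MonoidHom.mem_ker, map_mul, hx])
  obtain ⟨k, hk' | hk'⟩ := Nat.even_or_odd' (orderOf (t₀ * t₀))
  · exfalso
    have hpos := orderOf_pos (t₀ * t₀)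
    refine pow_ne_one_of_lt_orderOf (n := k) (x := t₀ * t₀) (by omega) (by omega)
      (eq_one_of_comm_tv hF (by norm_num) (by rw [← pow_add, ← two_mul, ← hk', pow_orderOf_eq_one])
        fun w hw => ?_)
    exact Commute.pow_left (show Commute (t₀ * t₀) (tv hF w hw) from
      (Subgroup.mem_center_iff.mp hz (tv hF w hw)).symm) k
  · refine ⟨t₀ ^ (2 * k + 1), ?_, ?_⟩
    · rw [← (Commute.refl t₀).mul_pow, ← hk', pow_orderOf_eq_one]
    · rw [map_pow, pow_succ, pow_mul, sq, hx, one_pow, one_mul]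

/-- a central element fixing a nonzero vector is trivial -/
theorem eq_one_of_central_fix (hF : Fintype.card F = 2 ^ 2) {s : SU 6 F 2} (hs : s ∈ Subgroup.center (SU 6 F 2))
    {u : Fin 6 → F} (hu : u ≠ 0) (h : act s u = u) : s = 1 := by
  obtain ⟨l, hl⟩ := (mem_center_SU_iff hF (by norm_num) s).mp hs
  have : l • u = (1 : F) • u := by rw [one_smul, ← hl u]; exact h
  have hl1 : l = 1 := smul_left_injective F hu this
  exact ext' fun v => by rw [act_one]; show s.1.1 *ᵥ v = v; rw [hl, hl1, one_smul]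

theorem exists_orth_two (hF : Fintype.card F = 2 ^ 2) (v w : Fin 6 → F) :
    ∃ u : Fin 6 → F, u ≠ 0 ∧ h⟪u, v⟫ = 0 ∧ h⟪u, w⟫ = 0 := by
  have hne : perp 2 (Submodule.span F ({v, w} : Set (Fin 6 → F))) ≠ ⊥ := by
    intro h
    have h1 := finrank_perp hF (Submodule.span F ({v, w} : Set (Fin 6 → F)))
    rw [h, finrank_bot] at h1
    have h2 : finrank F (Submodule.span F ({v, w} : Set (Fin 6 → F))) ≤ 2 := by
      classical
      have := finrank_span_finset_le_card (R := F) ({v, w} : Finset (Fin 6 → F))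
      rw [Finset.coe_pair] at this
      exact this.trans Finset.card_le_two
    omega
  obtain ⟨u, hu, hu0⟩ := Submodule.exists_mem_ne_zero_of_ne_bot hne
  exact ⟨u, hu0, hu v (Submodule.subset_span (by simp)), hu w (Submodule.subset_span (by simp))⟩

theorem commute_iff (hF : Fintype.card F = 2 ^ 2) (hk : φ.ker ≤ Subgroup.center (SU 6 F 2))
    {v w : Fin 6 → F} (hv : h⟪v, v⟫ = 0) (hw : h⟪w, w⟫ = 0) :
    Commute (φ (tv hF v hv)) (φ (tv hF w hw)) ↔ h⟪v, w⟫ = 0 := by
  refine ⟨fun h => ?_, fun h => (tv_comm hF hv hw h).map φ⟩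
  have hz : tv hF v hv * tv hF w hw * (tv hF v hv * tv hF w hw) ∈ Subgroup.center (SU 6 F 2) := hk (by
    rw [MonoidHom.mem_ker, map_mul, map_mul, h.symm.mul_mul_mul_comm, ← map_mul, ← map_mul,
      tv_mul_self hF, tv_mul_self hF, map_one, one_mul])
  obtain ⟨u, hu0, hu1, hu2⟩ := exists_orth_two hF v w
  have h1 := eq_one_of_central_fix hF hz hu0 (by simp [act_mul, act_tv, hu1, hu2])
  have hc : Commute (tv hF v hv) (tv hF w hw) := by
    have h2 := inv_eq_of_mul_eq_one_right h1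
    rw [_root_.mul_inv_rev, inv_eq_of_mul_eq_one_right (tv_mul_self hF hv),
      inv_eq_of_mul_eq_one_right (tv_mul_self hF hw)] at h2
    exact h2.symm
  by_contra hne
  have hv0 : v ≠ 0 := fun h => hne (by rw [h, herm_zero_left])
  have := congrArg (fun g => act g v) hc.eq
  simp only [act_mul, act_tv, act_add, act_smul, hv, zero_smul, add_zero, herm_add_left, herm_smul_left] at this
  have h3 : (h⟪v, w⟫ * h⟪w, v⟫) • v = 0 := by
    rw [← sub_eq_zero] at this
    rw [← this]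
    simp only [smul_add, smul_smul, zero_add]
    abel
  rcases smul_eq_zero.mp h3 with h4 | h4
  · rcases mul_eq_zero.mp h4 with h5 | h5
    · exact hne h5
    · exact hne (herm_eq_zero_symm hF h5)
  · exact hv0 h4

theorem eq_iff_parallel (hF : Fintype.card F = 2 ^ 2) (hk : φ.ker ≤ Subgroup.center (SU 6 F 2))
    {v w : Fin 6 → F} (hv : h⟪v, v⟫ = 0) (hw : h⟪w, w⟫ = 0) (hv0 : v ≠ 0) (hw0 : w ≠ 0) :
    φ (tv hF v hv) = φ (tv hF w hw) ↔ ∃ a : F, a ≠ 0 ∧ w = a • v := by
  refine ⟨fun h => ?_, fun ⟨a, ha, h⟩ => by subst h; rw [tv_smul hF hv ha]⟩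
  have hz : tv hF v hv * tv hF w hw ∈ Subgroup.center (SU 6 F 2) := hk (by
    rw [MonoidHom.mem_ker, map_mul, h, ← map_mul, tv_mul_self hF, map_one])
  obtain ⟨u, hu0, hu1, hu2⟩ := exists_orth_two hF v w
  have h1 := eq_one_of_central_fix hF hz hu0 (by simp [act_mul, act_tv, hu1, hu2])
  have heq : tv hF w hw = tv hF v hv := by
    rw [← inv_eq_of_mul_eq_one_right h1, inv_eq_of_mul_eq_one_right (tv_mul_self hF hv)]
  obtain ⟨f, hf⟩ := exists_hyp hF hw0 hw
  have := congrArg (fun g => act g f) heq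
  simp only [act_tv, hf.symm' hF, one_smul] at this
  have h2 := add_left_cancel this
  exact ⟨h⟪f, v⟫, fun h0 => hw0 (by rw [h2, h0, zero_smul]), h2⟩

theorem ne_one (hF : Fintype.card F = 2 ^ 2) (hk : φ.ker ≤ Subgroup.center (SU 6 F 2))
    {v : Fin 6 → F} (hv : h⟪v, v⟫ = 0) (hv0 : v ≠ 0) : φ (tv hF v hv) ≠ 1 := by
  intro h
  obtain ⟨u, hu0, hu1, -⟩ := exists_orth_two hF v v
  have h1 := eq_one_of_central_fix hF (hk (MonoidHom.mem_ker.mpr h)) hu0 (by simp [act_tv, hu1])
  obtain ⟨f, hf⟩ := exists_hyp hF hv0 hv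
  have := congrArg (fun g => act g f) h1
  rw [act_tv, act_one, hf.symm' hF, one_smul, add_eq_left] at this
  exact hv0 this

/-- the product of two commuting parts is not of order at most three -/
theorem order_six (hF : Fintype.card F = 2 ^ 2) (hk : φ.ker ≤ Subgroup.center (SU 6 F 2))
    {a a' b b' : Fin 6 → F} (ha : h⟪a, a⟫ = 0) (ha' : h⟪a', a'⟫ = 0) (hb : h⟪b, b⟫ = 0) (hb' : h⟪b', b'⟫ = 0)
    (h1 : h⟪a, a'⟫ ≠ 0) (o1 : h⟪a, b⟫ = 0) (o2 : h⟪a, b'⟫ = 0) (o3 : h⟪a', b⟫ = 0) (o4 : h⟪a', b'⟫ = 0)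
    (o5 : h⟪b, b'⟫ = 0) (hb0 : b ≠ 0) (hb0' : b' ≠ 0) (hnp : ∀ k : F, b' ≠ k • b) :
    (φ (tv hF a ha * tv hF a' ha' * (tv hF b hb * tv hF b' hb'))) ^ 2 ≠ 1 ∧
      (φ (tv hF a ha * tv hF a' ha' * (tv hF b hb * tv hF b' hb'))) ^ 3 ≠ 1 := by
  have cX : Commute (φ (tv hF a ha * tv hF a' ha')) (φ (tv hF b hb * tv hF b' hb')) :=
    (Commute.mul_left ((tv_comm hF ha hb o1).mul_right (tv_comm hF ha hb' o2))
      ((tv_comm hF ha' hb o3).mul_right (tv_comm hF ha' hb' o4))).map φ
  have hX2 : φ (tv hF b hb * tv hF b' hb') ^ 2 = 1 := by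
    rw [← map_pow, sq, (tv_comm hF hb hb' o5).symm.mul_mul_mul_comm, tv_mul_self hF, tv_mul_self hF,
      one_mul, map_one]
  constructor
  · intro h
    rw [map_mul, cX.mul_pow, hX2, mul_one, map_mul] at h
    refine h1 ((commute_iff φ hF hk ha ha').mp ?_)
    have h2 := inv_eq_of_mul_eq_one_right (by rwa [sq] at h)
    rw [_root_.mul_inv_rev, ← map_inv, ← map_inv, inv_eq_of_mul_eq_one_right (tv_mul_self hF ha),
      inv_eq_of_mul_eq_one_right (tv_mul_self hF ha')] at h2
    exact h2.symm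
  · intro h
    rw [map_mul, cX.mul_pow, show (3 : ℕ) = 2 + 1 from rfl, pow_succ (φ (tv hF b hb * tv hF b' hb')), hX2,
      one_mul] at h
    have hsq : (φ (tv hF b hb * tv hF b' hb')) = 1 := by
      have hT : (φ (tv hF a ha * tv hF a' ha')) ^ (2 + 1) = 1 := by
        rw [← map_pow]
        obtain ⟨u, hu0, hu1, hu2⟩ := exists_orth_two hF a a'
        have hbr : tv hF a ha * tv hF a' ha' * tv hF a ha = tv hF a' ha' * tv hF a ha * tv hF a' ha' := by
          have g1 : h⟪act (tv hF a ha) a', act (tv hF a ha) a'⟫ = 0 := by rw [act_herm]; exact ha'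
          have g2 : h⟪act (tv hF a' ha') a, act (tv hF a' ha') a⟫ = 0 := by rw [act_herm]; exact ha
          have e1 := tv_conj hF (tv hF a ha) ha' g1
          have e2 := tv_conj hF (tv hF a' ha') ha g2
          rw [inv_eq_of_mul_eq_one_right (tv_mul_self hF ha)] at e1
          rw [inv_eq_of_mul_eq_one_right (tv_mul_self hF ha')] at e2
          rw [← e1, ← e2]
          have hcne : h⟪a', a⟫ ≠ 0 := fun h => h1 (herm_eq_zero_symm hF h)
          have hsm : act (tv hF a' ha') a = h⟪a, a'⟫ • act (tv hF a ha) a' := by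
            rw [act_tv, act_tv, smul_add, smul_smul, ← herm_conj a a' hF,
              norm_eq_one hF h1, one_smul, add_comm]
          have hiso : h⟪h⟪a, a'⟫ • act (tv hF a ha) a', h⟪a, a'⟫ • act (tv hF a ha) a'⟫ = 0 := hsm ▸ g2
          rw [tv_eq_of_eq hF hsm g2 hiso, tv_smul hF g1 h1]
        have : (tv hF a ha * tv hF a' ha') ^ (2 + 1) = 1 := by
          calc (tv hF a ha * tv hF a' ha') ^ (2 + 1)
              = (tv hF a ha * tv hF a' ha' * tv hF a ha) * (tv hF a' ha' * tv hF a ha * tv hF a' ha') := by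
                rw [pow_three]; group
            _ = 1 := by
                rw [← hbr]
                calc tv hF a ha * tv hF a' ha' * tv hF a ha * (tv hF a ha * tv hF a' ha' * tv hF a ha)
                    = tv hF a ha * (tv hF a' ha' * (tv hF a ha * tv hF a ha) * tv hF a' ha') * tv hF a ha := by group
                  _ = 1 := by rw [tv_mul_self hF, mul_one, tv_mul_self hF, mul_one, tv_mul_self hF]
        rw [this, map_one]
      rwa [hT, one_mul] at h
    rw [map_mul, mul_eq_one_iff_eq_inv, ← map_inv, inv_eq_of_mul_eq_one_right (tv_mul_self hF hb')] at hsq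
    obtain ⟨k, -, hk'⟩ := (eq_iff_parallel φ hF hk hb hb' hb0 hb0').mp hsq
    exact hnp k hk'

/-- members of a conjugation invariant 3-transposition set are transvection images -/
theorem exists_tv_eq (hF : Fintype.card F = 2 ^ 2) (hφ : Function.Surjective φ)
    (hk : φ.ker ≤ Subgroup.center (SU 6 F 2)) {E : Set Q}
    (h2 : ∀ x ∈ E, x ≠ 1 ∧ x * x = 1) (h3 : ∀ x ∈ E, ∀ y ∈ E, (x * y) ^ 2 = 1 ∨ (x * y) ^ 3 = 1)
    (hinv : ∀ g : Q, ∀ x ∈ E, g * x * g⁻¹ ∈ E) :
    ∀ x ∈ E, ∃ (v : Fin 6 → F) (hv : h⟪v, v⟫ = 0), v ≠ 0 ∧ x = φ (tv hF v hv) := by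
  intro x hx
  obtain ⟨t, ht, rfl⟩ := exists_sq_one_lift φ hF hφ hk x (h2 x hx).2
  have ht1 : ¬ ∀ y, nil t y = 0 := fun h => (h2 _ hx).1 (by rw [eq_one_of_nil hF h, map_one])
  obtain ⟨v, hv⟩ : ∃ v, h⟪nil t v, v⟫ ≠ 0 := by
    by_contra hcon
    push Not at hcon ht1
    obtain ⟨u₀, hu₀⟩ := ht1
    refine hu₀ (herm_nondeg_left hF fun y => eq_zero_of_trace_mul_eq_zero hF fun l => ?_)
    have h := hcon (l • u₀ + y)
    simp only [nil_add, nil_smul, herm_add_left, herm_add_right _ _ _ hF, herm_smul_left,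
      herm_smul_right, hcon, mul_zero, add_zero, zero_add] at h
    rw [herm_nil_left hF ht y u₀, ← herm_conj (nil t u₀) y hF] at h
    linear_combination h
  have hcl : ∀ y z : Fin 6 → F, h⟪nil t y, nil t z⟫ = 0 := by
    intro y z; rw [herm_nil_left hF ht, nil_nil hF ht, herm_zero_right _ hF]
  have hww := hcl v v
  have hv1 : h⟪nil t v, v⟫ = 1 := by
    have hfix : h⟪nil t v, v⟫ ^ 2 = h⟪nil t v, v⟫ := by
      rw [herm_conj (nil t v) v hF, ← herm_nil_left hF ht]
    have h : h⟪nil t v, v⟫ * (h⟪nil t v, v⟫ - 1) = 0 := by linear_combination hfix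
    exact sub_eq_zero.mp ((mul_eq_zero.mp h).resolve_left hv)
  have hvw : h⟪v, nil t v⟫ = 1 := by rw [← herm_nil_left hF ht, hv1]
  have hw0 : nil t v ≠ 0 := fun h => hv (by rw [h, herm_zero_left])
  generalize hw : nil t v = w at hv hv1 hvw hw0 hww
  -- the complementary part
  set t₁ := t * tv hF w hww with ht₁
  have hnw : act t w = w := by rw [act_eq_nil hF, ← hw, nil_nil hF ht, add_zero]
  have hTt : Commute t (tv hF w hww) := by
    have := tv_conj hF t hww (by rw [hnw]; exact hww)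
    rw [tv_eq_of_eq hF hnw (by rw [hnw]; exact hww) hww] at this
    exact mul_inv_eq_iff_eq_mul.mp this.symm
  have ht₁' : t₁ * t₁ = 1 := by
    rw [ht₁, hTt.symm.mul_mul_mul_comm, ht, tv_mul_self hF, one_mul]
  have ht' : t = t₁ * tv hF w hww := by rw [ht₁, mul_assoc, tv_mul_self hF, mul_one]
  have hnil : ∀ u, nil t₁ u = nil t u + h⟪u, w⟫ • w := by
    intro u
    rw [nil, ht₁, act_mul, act_tv, act_add, act_smul, hnw, act_eq_nil hF t u]
    rw [show u + nil t u + h⟪u, w⟫ • w + u = (u + u) + (nil t u + h⟪u, w⟫ • w) by abel, add_self_zero hF, zero_add]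
  have h1w : nil t₁ w = 0 := by rw [hnil, hww, zero_smul, add_zero, ← hw, nil_nil hF ht]
  have h1v : nil t₁ v = 0 := by rw [hnil, hvw, one_smul, hw, add_self_zero hF]
  by_cases hall : ∀ y, nil t₁ y = 0
  · exact ⟨w, hww, hw0, by rw [ht', eq_one_of_nil hF hall, one_mul]⟩
  exfalso
  have finish : ∀ (a a' b b' : Fin 6 → F) (ha : h⟪a, a⟫ = 0) (ha' : h⟪a', a'⟫ = 0) (hb : h⟪b, b⟫ = 0)
      (hb' : h⟪b', b'⟫ = 0) (g : Q), h⟪a, a'⟫ ≠ 0 → h⟪a, b⟫ = 0 → h⟪a, b'⟫ = 0 → h⟪a', b⟫ = 0 → h⟪a', b'⟫ = 0 →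
      h⟪b, b'⟫ = 0 → b ≠ 0 → b' ≠ 0 → (∀ k : F, b' ≠ k • b) →
      φ t * (g * φ t * g⁻¹) = φ (tv hF a ha * tv hF a' ha' * (tv hF b hb * tv hF b' hb')) → False := by
    intro a a' b b' ha ha' hb hb' g h1 o1 o2 o3 o4 o5 hb0 hb0' hnp he
    obtain ⟨n2, n3⟩ := order_six φ hF hk ha ha' hb hb' h1 o1 o2 o3 o4 o5 hb0 hb0' hnp
    rcases h3 _ hx _ (hinv g _ hx) with h | h
    · exact n2 (he ▸ h)
    · exact n3 (he ▸ h)
  push Not at hall
  obtain ⟨y₁, hy₁⟩ := hall
  by_cases hu : ∃ u₀, nil t₁ u₀ ≠ 0 ∧ h⟪nil t₁ u₀, u₀⟫ = 0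
  · obtain ⟨u₀, hu0, hub⟩ := hu
    have h1r : ∀ y, h⟪nil t₁ y, w⟫ = 0 ∧ h⟪nil t₁ y, v⟫ = 0 := fun y => ⟨by
      rw [herm_nil_left hF ht₁', h1w, herm_zero_right _ hF], by
      rw [herm_nil_left hF ht₁', h1v, herm_zero_right _ hF]⟩
    -- move u₀ into the orthogonal of w and v
    obtain ⟨u₁, hu1N, hu1w, hu1v⟩ : ∃ u₁, nil t₁ u₁ = nil t₁ u₀ ∧ h⟪u₁, w⟫ = 0 ∧ h⟪u₁, v⟫ = 0 := by
      refine ⟨u₀ + (h⟪u₀, v⟫ + h⟪u₀, w⟫ * h⟪v, v⟫) • w + h⟪u₀, w⟫ • v, ?_, ?_, ?_⟩
      · rw [nil_add, nil_add, nil_smul, nil_smul, h1w, h1v, smul_zero, smul_zero, add_zero, add_zero]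
      · simp only [herm_add_left, herm_smul_left, hww, hvw, mul_zero, add_zero, mul_one]
        linear_combination h⟪u₀, w⟫ * two_eq_zero hF
      · simp only [herm_add_left, herm_smul_left, hv1, mul_one]
        linear_combination (h⟪u₀, v⟫ + h⟪u₀, w⟫ * h⟪v, v⟫) * two_eq_zero hF
    obtain ⟨x, hxu⟩ : ∃ x, h⟪nil t₁ x, u₁⟫ ≠ 0 := by
      by_contra hcon
      push Not at hcon
      refine hu0 (herm_nondeg_left hF fun y => ?_)
      rw [← hu1N, herm_nil_left hF ht₁']
      exact herm_eq_zero_symm hF (hcon y)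
    have hnn : h⟪nil t₁ x, nil t₁ x⟫ = 0 := by
      rw [herm_nil_left hF ht₁', nil_nil hF ht₁', herm_zero_right _ hF]
    obtain ⟨l, hl⟩ := exists_isotropic_shift hF hnn (x := u₁) hxu
    set u := u₁ + l • nil t₁ x with hu
    have huN : nil t₁ u = nil t₁ u₀ := by
      rw [hu, nil_add, nil_smul, nil_nil hF ht₁', smul_zero, add_zero, hu1N]
    have huw : h⟪u, w⟫ = 0 := by rw [hu, herm_add_left, herm_smul_left, hu1w, (h1r x).1, mul_zero, add_zero]
    have huv : h⟪u, v⟫ = 0 := by rw [hu, herm_add_left, herm_smul_left, hu1v, (h1r x).2, mul_zero, add_zero]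
    have hub' : h⟪nil t₁ u, u⟫ = 0 := by
      have hbase : h⟪nil t₁ u₁, u₁⟫ = 0 := by
        have hd : nil t₁ (u₁ + u₀) = 0 := by rw [nil_add, hu1N, add_self_zero hF]
        have : h⟪nil t₁ u₀, u₁⟫ = h⟪nil t₁ u₀, u₀⟫ := by
          have h' : h⟪nil t₁ u₀, u₁ + u₀⟫ = 0 := by rw [herm_nil_left hF ht₁', hd, herm_zero_right _ hF]
          rw [herm_add_right _ _ _ hF] at h'
          linear_combination h' - h⟪nil t₁ u₀, u₀⟫ * two_eq_zero hF
        rw [hu1N, this, hub]
      rw [huN, hu, herm_add_right _ _ _ hF, herm_smul_right, ← hu1N, hbase,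
        herm_nil_left hF ht₁' u₁, nil_nil hF ht₁', herm_zero_right _ hF, mul_zero, add_zero]
    have hu00 : u ≠ 0 := fun h => hu0 (by rw [← huN, h, nil, act_def, Matrix.mulVec_zero, add_zero])
    have hsu : act t₁ u = u + nil t₁ u := act_eq_nil hF t₁ u
    have hiso' : h⟪act t₁ u, act t₁ u⟫ = 0 := by rw [act_herm]; exact hl
    have hsuw : h⟪act t₁ u, w⟫ = 0 := by rw [hsu, herm_add_left, huw, (h1r u).1, add_zero]
    have hsuv : h⟪act t₁ u, v⟫ = 0 := by rw [hsu, herm_add_left, huv, (h1r u).2, add_zero]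
    -- the partner of w
    obtain ⟨al, hal⟩ := exists_isotropic_shift hF hww (x := v) (by rw [hv1]; exact one_ne_zero)
    set w' := v + al • w with hw'
    have hww' : h⟪w, w'⟫ = 1 := by
      rw [hw', herm_add_right _ _ _ hF, herm_smul_right, hww, mul_zero, add_zero, hv1]
    have hy : h⟪w + w', w + w'⟫ = 0 := by
      simp only [herm_add_left, herm_add_right _ _ _ hF, hww, hal, hww', ← herm_conj w w' hF, one_pow,
        zero_add, add_zero]
      linear_combination two_eq_zero hF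
    have hTy : act (tv hF (w + w') hy) w = w' := by
      rw [act_tv, herm_add_right _ _ _ hF, hww, hww', zero_add, one_smul, ← add_assoc, add_self_zero hF, zero_add]
    have cy1 : Commute (tv hF (w + w') hy) t₁ := by
      have h1y : nil t₁ (w + w') = 0 := by
        rw [nil_add, h1w, hw', nil_add, nil_smul, h1v, h1w, smul_zero, add_zero, add_zero]
      have hfix : act t₁ (w + w') = w + w' := by rw [act_eq_nil hF, h1y, add_zero]
      have := tv_conj hF t₁ hy (by rw [hfix]; exact hy)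
      rw [tv_eq_of_eq hF hfix (by rw [hfix]; exact hy) hy] at this
      exact (mul_inv_eq_iff_eq_mul.mp this.symm).symm
    have huy : h⟪u, w + w'⟫ = 0 := by
      rw [herm_add_right _ _ _ hF, huw, hw', herm_add_right _ _ _ hF, herm_smul_right, huw, huv]
      simp
    have hsuy : h⟪act t₁ u, w + w'⟫ = 0 := by
      rw [herm_add_right _ _ _ hF, hsuw, hw', herm_add_right _ _ _ hF, herm_smul_right, hsuw, hsuv]
      simp
    have hU : tv hF (act t₁ u) hiso' = t₁ * tv hF u hl * t₁ := by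
      rw [tv_conj hF t₁ hl hiso', inv_eq_of_mul_eq_one_right ht₁']
    have cu : Commute (tv hF u hl) (tv hF w hww) := tv_comm hF hl hww huw
    have csu : Commute (tv hF (act t₁ u) hiso') (tv hF w hww) := tv_comm hF hiso' hww hsuw
    have hw'iso : h⟪w', w'⟫ = 0 := hal
    have hTw' : tv hF (w + w') hy * tv hF w hww * (tv hF (w + w') hy) = tv hF w' hw'iso := by
      have := tv_conj hF (tv hF (w + w') hy) hww (by rw [hTy]; exact hw'iso)
      rw [tv_eq_of_eq hF hTy (by rw [hTy]; exact hw'iso) hw'iso, inv_eq_of_mul_eq_one_right (tv_mul_self hF hy)]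
        at this
      exact this.symm
    refine finish w w' u (act t₁ u) hww hw'iso hl hiso' (φ (tv hF (w + w') hy * tv hF u hl)) ?_
      (herm_eq_zero_symm hF huw) (herm_eq_zero_symm hF hsuw) ?_ ?_ ?_ hu00 ?_ ?_ ?_
    · rw [hww']; exact one_ne_zero
    · rw [hw', herm_add_left, herm_smul_left, herm_eq_zero_symm hF huw, herm_eq_zero_symm hF huv]; simp
    · rw [hw', herm_add_left, herm_smul_left, herm_eq_zero_symm hF hsuw, herm_eq_zero_symm hF hsuv]; simp
    · rw [hsu, herm_add_right _ _ _ hF, hl, zero_add]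
      rw [← herm_nil_left hF ht₁']
      exact hub'
    · intro h
      refine hu00 ?_
      rw [← act_inv_self t₁ u, h, act_def, Matrix.mulVec_zero]
    · intro k hkk
      have := congrArg (fun z => nil t₁ z) hkk
      simp only [nil_smul] at this
      rw [hsu, nil_add, nil_nil hF ht₁', add_zero] at this
      have hk1 : k = 1 := by
        have h' : (k - 1) • nil t₁ u = 0 := by rw [sub_smul, one_smul, ← this, sub_self]
        exact sub_eq_zero.mp ((smul_eq_zero.mp h').resolve_right (by rw [huN]; exact hu0))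
      rw [hk1, one_smul, hsu, add_eq_left, huN] at hkk
      exact hu0 hkk
    · rw [← map_inv, ← map_mul, ← map_mul, ← map_mul, _root_.mul_inv_rev,
        inv_eq_of_mul_eq_one_right (tv_mul_self hF hy), inv_eq_of_mul_eq_one_right (tv_mul_self hF hl), ht']
      congr 1
      have cyu : Commute (tv hF u hl) (tv hF (w + w') hy) := tv_comm hF hl hy huy
      have hcw : Commute (tv hF w hww) t₁ := by
        have := tv_conj hF t₁ hww (by rw [act_eq_nil hF, h1w, add_zero]; exact hww)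
        rw [tv_eq_of_eq hF (by rw [act_eq_nil hF, h1w, add_zero]) _ hww] at this
        exact (mul_inv_eq_iff_eq_mul.mp this.symm).symm
      have cw'u : Commute (tv hF w' hw'iso) (tv hF (act t₁ u) hiso' * tv hF u hl) := by
        rw [← hTw']
        have c1 : Commute (tv hF (w + w') hy) (tv hF (act t₁ u) hiso') :=
          (tv_comm hF hiso' hy hsuy).symm
        exact (((c1.mul_right cyu.symm)).mul_left (csu.symm.mul_right cu.symm)).mul_left (c1.mul_right cyu.symm)
      generalize hA : tv hF w hww = A at *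
      generalize hB : tv hF (w + w') hy = B at *
      generalize hC : tv hF u hl = C at *
      generalize hA' : tv hF w' hw'iso = A' at *
      generalize hC' : tv hF (act t₁ u) hiso' = C' at *
      have hCB : C * B = B * C := cyu.eq
      have hBB : B * B = 1 := hB ▸ tv_mul_self hF hy
      have hCC : C * C = 1 := hC ▸ tv_mul_self hF hl
      have hC'C : C' * C = C * C' := by
        rw [← hC, ← hC']
        refine (tv_comm hF hiso' hl (herm_eq_zero_symm hF ?_)).eq
        rw [hsu, herm_add_right _ _ _ hF, hl, zero_add, ← herm_nil_left hF ht₁']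
        exact hub'
      calc t₁ * A * (B * C * (t₁ * A) * (C * B))
          = t₁ * A * (B * (C * t₁) * (A * C) * B) := by group
        _ = t₁ * A * (B * (C * t₁) * (C * A) * B) := by rw [cu.eq]
        _ = t₁ * A * (B * (t₁ * C' * C) * A * B) := by
            rw [show t₁ * C' * C = C * t₁ * C by rw [hU]; simp [← mul_assoc, ht₁']]; group
        _ = t₁ * A * (t₁ * (C' * C) * (B * A * B)) := by
            have c2 : Commute B (t₁ * (C' * C)) := by
              refine cy1.mul_right (Commute.mul_right ?_ cyu.symm)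
              rw [hU]; exact (cy1.mul_right cyu.symm).mul_right cy1
            rw [show t₁ * C' * C = t₁ * (C' * C) from mul_assoc _ _ _, c2.eq]; group
        _ = A * (t₁ * t₁) * (C' * C) * A' := by rw [hTw', ← hcw.eq]; group
        _ = A * ((C' * C) * A') := by rw [ht₁', mul_one, mul_assoc]
        _ = A * A' * (C * C') := by rw [← cw'u.eq, hC'C, mul_assoc]
  · -- the complementary part is a transvection
    push Not at hu
    obtain ⟨v₂, hv₂⟩ : ∃ v₂, h⟪nil t₁ v₂, v₂⟫ ≠ 0 := ⟨y₁, hu y₁ hy₁⟩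
    have hone : ∀ y, nil t₁ y ≠ 0 → h⟪nil t₁ y, y⟫ = 1 := by
      intro y hy
      have hfix : h⟪nil t₁ y, y⟫ ^ 2 = h⟪nil t₁ y, y⟫ := by
        rw [herm_conj (nil t₁ y) y hF, ← herm_nil_left hF ht₁']
      have h : h⟪nil t₁ y, y⟫ * (h⟪nil t₁ y, y⟫ - 1) = 0 := by linear_combination hfix
      exact sub_eq_zero.mp ((mul_eq_zero.mp h).resolve_left (hu y hy))
    have hv20 : nil t₁ v₂ ≠ 0 := fun h => hv₂ (by rw [h, herm_zero_left])
    have hb1 := hone v₂ hv20
    have hrank : ∀ y, nil t₁ y = h⟪y, nil t₁ v₂⟫ • nil t₁ v₂ := by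
      intro y
      rw [← herm_nil_left hF ht₁' y v₂]
      set y' := y + h⟪nil t₁ y, v₂⟫ • v₂ with hy'
      have hN' : nil t₁ y' = nil t₁ y + h⟪nil t₁ y, v₂⟫ • nil t₁ v₂ := by rw [hy', nil_add, nil_smul]
      suffices hz : nil t₁ y' = 0 by
        rw [hN'] at hz
        have := congrArg (· + h⟪nil t₁ y, v₂⟫ • nil t₁ v₂) hz
        simp only [add_assoc, add_self_zero hF, add_zero, zero_add] at this
        exact this
      by_contra hne
      have hb2 := hone y' hne
      have hcross : h⟪nil t₁ y', v₂⟫ = 0 := by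
        rw [hN', herm_add_left, herm_smul_left, hb1, mul_one]
        linear_combination h⟪nil t₁ y, v₂⟫ * two_eq_zero hF
      have hsum : nil t₁ (y' + v₂) = 0 := by
        by_contra hs
        have := hone _ hs
        have hcross' : h⟪nil t₁ v₂, y'⟫ = 0 := by
          rw [herm_nil_left hF ht₁']; exact herm_eq_zero_symm hF hcross
        simp only [nil_add, herm_add_left, herm_add_right _ _ _ hF, hb1, hb2, hcross, hcross', add_zero,
          zero_add] at this
        exact one_ne_zero (α := F) (by linear_combination this)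
      rw [nil_add] at hsum
      have h' := congrArg (fun z => h⟪z, v₂⟫) hsum
      simp only [herm_add_left, hcross, hb1, herm_zero_left, zero_add] at h'
      exact one_ne_zero h'
    have hxx : h⟪nil t₁ v₂, nil t₁ v₂⟫ = 0 := by
      rw [herm_nil_left hF ht₁', nil_nil hF ht₁', herm_zero_right _ hF]
    have ht₁tv : t₁ = tv hF (nil t₁ v₂) hxx := ext' fun y => by rw [act_eq_nil hF t₁, act_tv, ← hrank]
    generalize hx' : nil t₁ v₂ = x at hxx ht₁tv hv20
    have hwx : h⟪w, x⟫ = 0 := by rw [← hx', ← herm_nil_left hF ht₁', h1w, herm_zero_left]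
    have hvx : h⟪v, x⟫ = 0 := by rw [← hx', ← herm_nil_left hF ht₁', h1v, herm_zero_left]
    have hliwx : LinearIndependent F ![w, x] := by
      rw [LinearIndependent.pair_iff' hw0]
      intro a ha
      rw [← ha, herm_smul_right, hvw, mul_one] at hvx
      rw [sq, mul_self_eq_zero] at hvx
      rw [hvx, zero_smul] at ha
      exact hv20 ha.symm
    obtain ⟨f, tt, g, hwf, hxt, hfx, htw, htf, hg, hgo, hli6⟩ := exists_frame hF hliwx hww hxx hwx
    have hz : h⟪x + (g 0 + g 1), x + (g 0 + g 1)⟫ = 0 := by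
      simp only [herm_add_left, herm_add_right _ _ _ hF, hxx, hg _ _, (hgo _).2.2.1,
        herm_eq_zero_symm hF (hgo _).2.2.1]
      simp
      linear_combination two_eq_zero hF
    have hgw : ∀ i, h⟪w, g i⟫ = 0 := fun i => herm_eq_zero_symm hF (hgo i).1
    have hgf : ∀ i, h⟪f, g i⟫ = 0 := fun i => herm_eq_zero_symm hF (hgo i).2.1
    have hli' : LinearIndependent F ![f, x + (g 0 + g 1)] := by
      rw [LinearIndependent.pair_iff]
      intro a b hab
      have h1 := congrArg (fun z => h⟪z, w⟫) hab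
      have h2 := congrArg (fun z => h⟪z, tt⟫) hab
      simp [herm_zero_left, herm_add_left, herm_smul_left, hwf.symm' hF, herm_eq_zero_symm hF hwx, (hgo _).1] at h1
      simp [herm_zero_left, herm_add_left, herm_smul_left, hxt.2.2, herm_eq_zero_symm hF htf, (hgo _).2.2.2, h1] at h2
      exact ⟨h1, h2⟩
    have hfx' : h⟪f, x + (g 0 + g 1)⟫ = 0 := by simp [herm_add_right _ _ _ hF, hfx, hgf]
    obtain ⟨M, a, ha, hdet, hMe, hMs⟩ := exists_SU_isotropic_pair hF hliwx hww hxx hwx hli' hwf.2.1 hz hfx'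
    let G : SU 6 F 2 := ⟨⟨M.1.1, hdet⟩, M.2⟩
    refine finish w f x (x + (g 0 + g 1)) hww hwf.2.1 hxx hz (φ G) (by rw [hwf.2.2]; exact one_ne_zero) hwx ?_
      hfx hfx' ?_ hv20 ?_ ?_ ?_
    · simp [herm_add_right _ _ _ hF, hwx, hgw]
    · simp [herm_add_right _ _ _ hF, hxx, herm_eq_zero_symm hF (hgo _).2.2.1]
    · intro h
      have := congrArg (fun z => h⟪z, g 0⟫) h
      simp [herm_add_left, herm_eq_zero_symm hF (hgo 0).2.2.1, hg _ _, herm_zero_left] at this
    · intro k hk'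
      have := congrArg (fun z => h⟪z, g 0⟫) hk'
      simp [herm_add_left, herm_smul_left, herm_eq_zero_symm hF (hgo 0).2.2.1, hg _ _] at this
    · rw [← map_inv, ← map_mul, ← map_mul, ← map_mul, ht', ht₁tv]
      congr 1
      have e1 : G * tv hF w hww * G⁻¹ = tv hF f hwf.2.1 := by
        rw [← tv_conj hF G hww (by rw [act_herm]; exact hww),
          tv_eq_of_eq hF (show act G w = a • f from hMe) _ (by simp [herm_smul_left, herm_smul_right, hwf.2.1]),
          tv_smul hF hwf.2.1 ha]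
      have e2 : G * tv hF x hxx * G⁻¹ = tv hF _ hz := by
        rw [← tv_conj hF G hxx (by rw [act_herm]; exact hxx),
          tv_eq_of_eq hF (show act G x = x + (g 0 + g 1) from hMs) _ hz]
      have c1 : Commute (tv hF x hxx) (tv hF f hwf.2.1) := tv_comm hF hxx hwf.2.1 (herm_eq_zero_symm hF hfx)
      calc tv hF x hxx * tv hF w hww * (G * (tv hF x hxx * tv hF w hww) * G⁻¹)
          = tv hF x hxx * tv hF w hww * ((G * tv hF x hxx * G⁻¹) * (G * tv hF w hww * G⁻¹)) := by group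
        _ = tv hF x hxx * tv hF w hww * (tv hF f hwf.2.1 * tv hF _ hz) := by
            rw [e1, e2, (tv_comm hF hwf.2.1 hz hfx').eq]
        _ = tv hF w hww * (tv hF x hxx * tv hF f hwf.2.1) * tv hF _ hz := by
            rw [(tv_comm hF hxx hww (herm_eq_zero_symm hF hwx)).eq]; group
        _ = _ := by rw [c1.eq]; group

end

end Cfsg.Agent.Lib.UnitaryFour.Classes
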