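import Mathlib
import Cfsg.Agent.Lib.UnitaryFour.Classes
import Cfsg.Agent.Lib.Unitary.Generation

/-!
SU(4,2) inside SU(6,2) on the orthogonal of a hyperbolic pair, and the stabiliser of an isotropic
point: it is generated, up to scalars, by the transvections fixing the point.
-/

set_option autoImplicit false
set_option linter.unusedSectionVars false
set_option linter.style.haveILetI false

namespace Cfsg.Agent.Lib.UnitaryFour.Stabilizer

open Matrix Module Cfsg.Agent.Lib.Unitary Cfsg.Agent.Lib.UnitaryFour.Transvection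
  Cfsg.Agent.Lib.UnitaryFour.Classes

variable {F : Type*} [Field F] [Fintype F]

local notation "h⟪" u ", " v "⟫" => Cfsg.hermForm 6 F 2 u v

/-- the transvections whose centre is orthogonal to all vectors of a set -/
def tvPerp (hF : Fintype.card F = 2 ^ 2) (S : Set (Fin 6 → F)) : Subgroup (Cfsg.SU 6 F 2) :=
  Subgroup.closure {t | ∃ (u : Fin 6 → F) (hu : h⟪u, u⟫ = 0), u ≠ 0 ∧ (∀ s ∈ S, h⟪u, s⟫ = 0) ∧ t = tv hF u hu}

theorem tv_mem_tvPerp (hF : Fintype.card F = 2 ^ 2) {S : Set (Fin 6 → F)} {u : Fin 6 → F}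
    (hu : h⟪u, u⟫ = 0) (hS : ∀ s ∈ S, h⟪u, s⟫ = 0) : tv hF u hu ∈ tvPerp hF S := by
  by_cases h0 : u = 0
  · subst h0; rw [tv_zero]; exact one_mem _
  · exact Subgroup.subset_closure ⟨u, hu, h0, hS, rfl⟩

theorem tvPerp_mono (hF : Fintype.card F = 2 ^ 2) {S T : Set (Fin 6 → F)} (h : S ⊆ T) :
    tvPerp hF T ≤ tvPerp hF S :=
  Subgroup.closure_mono fun _ ⟨u, hu, h0, hT, he⟩ => ⟨u, hu, h0, fun s hs => hT s (h hs), he⟩

theorem act_fix (hF : Fintype.card F = 2 ^ 2) {S : Set (Fin 6 → F)} {g : Cfsg.SU 6 F 2}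
    (hg : g ∈ tvPerp hF S) : ∀ s ∈ S, act g s = s := by
  induction hg using Subgroup.closure_induction with
  | mem t ht =>
    obtain ⟨u, hu, -, hS, rfl⟩ := ht
    intro s hs
    rw [act_tv, herm_eq_zero_symm hF (hS s hs), zero_smul, add_zero]
  | one => intro s _; exact act_one s
  | mul a b _ _ iha ihb => intro s hs; rw [act_mul, ihb s hs, iha s hs]
  | inv a _ ih =>
    intro s hs
    conv_lhs => rw [← ih s hs]
    exact act_inv_self a s

/-- transitivity on the isotropic vectors with a given product with `e` -/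
theorem exists_move (hF : Fintype.card F = 2 ^ 2) {e y y' : Fin 6 → F} (he : h⟪e, e⟫ = 0)
    (hy : h⟪y, y⟫ = 0) (hy' : h⟪y', y'⟫ = 0) (h1 : h⟪e, y⟫ = 1) (h1' : h⟪e, y'⟫ = 1) :
    ∃ g ∈ tvPerp hF {e}, act g y = y' := by
  have hye : h⟪y, e⟫ = 1 := (Hyp.symm' hF (⟨he, hy, h1⟩ : Hyp 2 e y))
  have step : ∀ {a b : Fin 6 → F}, h⟪a, a⟫ = 0 → h⟪b, b⟫ = 0 → h⟪e, a⟫ = 1 → h⟪e, b⟫ = 1 → h⟪a, b⟫ = 1 →
      ∃ g ∈ tvPerp hF {e}, act g a = b := by
    intro a b ha hb hea heb hab
    have hba : h⟪b, a⟫ = 1 := by rw [← herm_conj a b hF, hab, one_pow]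
    have hz : h⟪a + b, a + b⟫ = 0 := by
      simp only [herm_add_left, herm_add_right _ _ _ hF, ha, hb, hab, hba, zero_add, add_zero]
      linear_combination two_eq_zero hF
    refine ⟨tv hF (a + b) hz, tv_mem_tvPerp hF hz fun s hs => ?_, ?_⟩
    · rw [Set.mem_singleton_iff.mp hs]
      refine herm_eq_zero_symm hF ?_
      rw [herm_add_right _ _ _ hF, hea, heb]
      linear_combination two_eq_zero hF
    · rw [act_tv, herm_add_right _ _ _ hF, ha, hab, zero_add, one_smul, ← add_assoc, add_self_zero hF, zero_add]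
  have two : ∀ m : Fin 6 → F, h⟪m, m⟫ = 0 → h⟪e, m⟫ = 1 → h⟪y, m⟫ = 1 → h⟪m, y'⟫ = 1 →
      ∃ g ∈ tvPerp hF {e}, act g y = y' := by
    intro m hm hem hym hmy
    obtain ⟨g₁, hg₁, e₁⟩ := step hy hm h1 hem hym
    obtain ⟨g₂, hg₂, e₂⟩ := step hm hy' hem h1' hmy
    exact ⟨g₂ * g₁, mul_mem hg₂ hg₁, by rw [act_mul, e₁, e₂]⟩
  set α := h⟪y', y⟫ with hα
  have hyy' : h⟪y, y'⟫ = α ^ 2 := by rw [hα, herm_conj y' y hF]
  have hy'e : h⟪y', e⟫ = 1 := by rw [← herm_conj e y' hF, h1', one_pow]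
  by_cases ha1 : α = 1
  · exact step hy hy' h1 h1' (by rw [hyy', ha1, one_pow])
  by_cases ha0 : α = 0
  · refine two (y + e) ?_ ?_ ?_ ?_ <;>
      simp only [herm_add_left, herm_add_right _ _ _ hF, he, hy, h1, hye, h1', hyy', ha0, zero_add, add_zero,
        ne_eq, OfNat.ofNat_ne_zero, not_false_eq_true, zero_pow]
    · linear_combination two_eq_zero hF
  set u := y' + y + α • e with hu
  have htr : α ^ 2 + α = 1 := by
    have h := cube_eq_one hF ha0
    have h' : (α - 1) * (α ^ 2 + α + 1) = 0 := by linear_combination h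
    have := (mul_eq_zero.mp h').resolve_left (sub_ne_zero.mpr ha1)
    linear_combination this - two_eq_zero hF
  have hue : h⟪u, e⟫ = 0 := by
    simp only [hu, herm_add_left, herm_smul_left, he, hye, hy'e, mul_zero, add_zero]
    linear_combination two_eq_zero hF
  have huy : h⟪u, y⟫ = 0 := by
    simp only [hu, herm_add_left, herm_smul_left, hy, h1, ← hα, mul_one, add_zero]
    linear_combination α * two_eq_zero hF
  have huy' : h⟪u, y'⟫ = 1 := by
    simp only [hu, herm_add_left, herm_smul_left, hy', hyy', h1', mul_one, zero_add]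
    exact htr
  have huu : h⟪u, u⟫ = 1 := by
    nth_rw 2 [hu]
    simp only [herm_add_right _ _ _ hF, herm_smul_right, hue, huy, huy', mul_zero, add_zero]
  obtain ⟨v, hve, hvy, hvu, hvv⟩ : ∃ v, h⟪v, e⟫ = 0 ∧ h⟪v, y⟫ = 0 ∧ h⟪v, u⟫ = 0 ∧ h⟪v, v⟫ = 1 := by
    set W := Submodule.span F (Set.range ![e, y, u])
    have hW : Nondeg 2 W := by
      intro x hx hv
      obtain ⟨c, rfl⟩ := (Submodule.mem_span_range_iff_exists_fun F).1 hx
      have k1 := hv _ (Submodule.subset_span ⟨1, rfl⟩)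
      have k0 := hv _ (Submodule.subset_span ⟨0, rfl⟩)
      have k2 := hv _ (Submodule.subset_span ⟨2, rfl⟩)
      simp [Fin.sum_univ_three, herm_add_left, herm_smul_left, he, hy, h1, hye, hue, huy, huu,
        herm_eq_zero_symm hF hue, herm_eq_zero_symm hF huy] at k0 k1 k2
      simp [Fin.sum_univ_three, k0, k1, k2]
    have hk : finrank F W ≤ 3 := by
      have := finrank_range_le_card (R := F) ![e, y, u]
      simpa [Set.finrank] using this
    have hne : Cfsg.Agent.Lib.Unitary.perp 2 W ≠ ⊥ := by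
      intro h
      have := finrank_perp hF W
      rw [h, finrank_bot] at this
      omega
    obtain ⟨v, hv, hvv⟩ := exists_norm_one_of_nondeg hF (nondeg_perp hF hW) hne
    exact ⟨v, hv _ (Submodule.subset_span ⟨0, rfl⟩), hv _ (Submodule.subset_span ⟨1, rfl⟩),
      hv _ (Submodule.subset_span ⟨2, rfl⟩), hvv⟩
  have hvy' : h⟪v, y'⟫ = 0 := by
    have hy'eq : y' = u + y + α • e := by
      rw [hu, show y' + y + α • e + y + α • e = y' + (y + y) + (α • e + α • e) by abel, add_self_zero hF,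
        add_self_zero hF, add_zero, add_zero]
    rw [hy'eq]
    simp only [herm_add_right _ _ _ hF, herm_smul_right, hvu, hvy, hve, mul_zero, add_zero]
  refine two (y + e + (α ^ 2 • u + v)) ?_ ?_ ?_ ?_ <;>
    simp only [herm_add_left, herm_add_right _ _ _ hF, herm_smul_left, herm_smul_right, he, hy, h1, hye, h1',
      hyy', hue, huy, huy', huu, hve, hvy, hvu, hvv, hvy', herm_eq_zero_symm hF hue, herm_eq_zero_symm hF huy,
      herm_eq_zero_symm hF hve, herm_eq_zero_symm hF hvy, herm_eq_zero_symm hF hvu, mul_zero, mul_one,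
      zero_add, add_zero]
  · linear_combination (norm_eq_one hF (pow_ne_zero 2 ha0)) + 2 * two_eq_zero hF
  · linear_combination (α ^ 2) * two_eq_zero hF

/-- data: a hyperbolic pair and an orthonormal basis of its orthogonal -/
structure Frame (e f : Fin 6 → F) (g : Fin 4 → Fin 6 → F) : Prop where
  hyp : Hyp 2 e f
  on : Orthonormal' 2 g
  orth : ∀ i, h⟪g i, e⟫ = 0 ∧ h⟪g i, f⟫ = 0
  li : LinearIndependent F (Sum.elim ![e, f] g)

theorem exists_Frame (hF : Fintype.card F = 2 ^ 2) {e f : Fin 6 → F} (h : Hyp 2 e f) :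
    ∃ g : Fin 4 → Fin 6 → F, Frame e f g := by
  obtain ⟨g, hg, hgo, hli⟩ := h.exists_complement hF
  exact ⟨g, h, hg, hgo, hli⟩

variable {e f : Fin 6 → F} {g : Fin 4 → Fin 6 → F}

/-- the combination with given coordinates -/
def lin (g : Fin 4 → Fin 6 → F) (x : Fin 4 → F) : Fin 6 → F := ∑ i, x i • g i

theorem Frame.lin_herm (hF : Fintype.card F = 2 ^ 2) (h : Frame e f g) (x y : Fin 4 → F) :
    h⟪lin g x, lin g y⟫ = Cfsg.hermForm 4 F 2 x y := by
  have e1 : ∀ j, h⟪lin g x, g j⟫ = x j := orthonormal_coeff h.on x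
  calc h⟪lin g x, lin g y⟫ = ∑ i, h⟪lin g x, y i • g i⟫ := herm_sum_right _ hF _ _
    _ = Cfsg.hermForm 4 F 2 x y := Finset.sum_congr rfl fun i _ => by rw [herm_smul_right, e1, mul_comm]

theorem Frame.lin_orth (h : Frame e f g) (x : Fin 4 → F) : h⟪lin g x, e⟫ = 0 ∧ h⟪lin g x, f⟫ = 0 := by
  constructor <;> simp [lin, herm_sum_left, herm_smul_left, (h.orth _).1, (h.orth _).2]

theorem Frame.expand (hF : Fintype.card F = 2 ^ 2) (h : Frame e f g) (v : Fin 6 → F) :
    v = h⟪v, f⟫ • e + h⟪v, e⟫ • f + lin g fun i => h⟪v, g i⟫ := by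
  refine Counts_eq hF h ?_ ?_ fun j => ?_
  · simp [herm_add_left, herm_smul_left, h.hyp.1, h.hyp.symm' hF, (h.lin_orth _).1]
  · simp [herm_add_left, herm_smul_left, h.hyp.2.1, h.hyp.2.2, (h.lin_orth _).2]
  · simp [herm_add_left, herm_smul_left, herm_eq_zero_symm hF (h.orth j).1, herm_eq_zero_symm hF (h.orth j).2,
      lin, orthonormal_coeff h.on]
where
  Counts_eq (hF : Fintype.card F = 2 ^ 2) (h : Frame e f g) {v w : Fin 6 → F} (he : h⟪v, e⟫ = h⟪w, e⟫)
      (hf : h⟪v, f⟫ = h⟪w, f⟫) (hg : ∀ j, h⟪v, g j⟫ = h⟪w, g j⟫) : v = w := by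
    refine sub_eq_zero.mp (herm_nondeg_left hF fun x => ?_)
    have hx : x ∈ Submodule.span F (Set.range (Sum.elim ![e, f] g)) := by
      rw [h.li.span_eq_top_of_card_eq_finrank' (by simp)]; exact Submodule.mem_top
    induction hx using Submodule.span_induction with
    | mem u hu =>
      obtain ⟨j, rfl⟩ := hu
      rw [herm_sub_left, sub_eq_zero]
      rcases j with j | j
      · fin_cases j
        · simpa using he
        · simpa using hf
      · simpa using hg j
    | zero => exact herm_zero_right _ hF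
    | add a b _ _ ha hb => rw [herm_add_right _ _ _ hF, ha, hb, add_zero]
    | smul a u _ hu => rw [herm_smul_right, hu, mul_zero]

/-- `s` acts as `A` on the orthogonal of the pair and fixes the pair -/
def ActsAs (e f : Fin 6 → F) (g : Fin 4 → Fin 6 → F) (A : Cfsg.SU 4 F 2) (s : Cfsg.SU 6 F 2) : Prop :=
  act s e = e ∧ act s f = f ∧ ∀ x, act s (lin g x) = lin g (A.1.1 *ᵥ x)

theorem ActsAs.unique (hF : Fintype.card F = 2 ^ 2) (h : Frame e f g) {A : Cfsg.SU 4 F 2}
    {s t : Cfsg.SU 6 F 2} (hs : ActsAs e f g A s) (ht : ActsAs e f g A t) : s = t := by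
  refine ext' fun v => ?_
  rw [h.expand hF v]
  simp only [act_add, act_smul, hs.1, hs.2.1, hs.2.2, ht.1, ht.2.1, ht.2.2]

theorem ActsAs.mul {A B : Cfsg.SU 4 F 2} {s t : Cfsg.SU 6 F 2} (hs : ActsAs e f g A s)
    (ht : ActsAs e f g B t) : ActsAs e f g (A * B) (s * t) := by
  refine ⟨by rw [act_mul, ht.1, hs.1], by rw [act_mul, ht.2.1, hs.2.1], fun x => ?_⟩
  rw [act_mul, ht.2.2, hs.2.2]
  simp [Matrix.mulVec_mulVec]

theorem ActsAs.one : ActsAs e f g (1 : Cfsg.SU 4 F 2) 1 := ⟨act_one e, act_one f, fun x => by simp [act_one]⟩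

theorem lin_add (x y : Fin 4 → F) : lin g (x + y) = lin g x + lin g y := by
  simp [lin, add_smul, Finset.sum_add_distrib]

theorem lin_smul (a : F) (x : Fin 4 → F) : lin g (a • x) = a • lin g x := by
  simp [lin, Finset.smul_sum, smul_smul]

theorem exists_actsAs (hF : Fintype.card F = 2 ^ 2) (h : Frame e f g) (A : Cfsg.SU 4 F 2) :
    ∃ s ∈ tvPerp hF {e, f}, ActsAs e f g A s := by
  have hA : A ∈ Subgroup.closure {A : Cfsg.SU 4 F 2 | IsTv (suToGU 4 F 2 A)} := by
    rw [suTransvections_closure hF (by norm_num) (by norm_num)]; exact Subgroup.mem_top _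
  induction hA using Subgroup.closure_induction with
  | mem A hA =>
    obtain ⟨v, c, hv, hc, hvc⟩ := hA
    by_cases hc0 : c = 0
    · refine ⟨1, one_mem _, act_one e, act_one f, fun x => ?_⟩
      rw [act_one, show A.1.1 *ᵥ x = x by simpa [hc0] using hvc x]
    have hc1 : c = 1 := by
      have : c * (1 + c) = 0 := by linear_combination hc
      linear_combination ((mul_eq_zero.mp this).resolve_left hc0) - two_eq_zero hF
    have hw : h⟪lin g v, lin g v⟫ = 0 := by rw [h.lin_herm hF, hv]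
    have ho : ∀ s ∈ ({e, f} : Set (Fin 6 → F)), h⟪lin g v, s⟫ = 0 := by
      intro s hs
      rcases hs with rfl | rfl
      · exact (h.lin_orth v).1
      · exact (h.lin_orth v).2
    refine ⟨tv hF _ hw, tv_mem_tvPerp hF hw ho, ?_, ?_, fun x => ?_⟩
    · rw [act_tv, herm_eq_zero_symm hF (h.lin_orth v).1, zero_smul, add_zero]
    · rw [act_tv, herm_eq_zero_symm hF (h.lin_orth v).2, zero_smul, add_zero]
    · rw [act_tv, h.lin_herm hF, show A.1.1 *ᵥ x = x + (c * Cfsg.hermForm 4 F 2 x v) • v from hvc x,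
        hc1, one_mul, lin_add, lin_smul]
  | one => exact ⟨1, one_mem _, ActsAs.one⟩
  | mul A B _ _ ihA ihB =>
    obtain ⟨s, hs, hsA⟩ := ihA
    obtain ⟨t, ht, htB⟩ := ihB
    exact ⟨s * t, mul_mem hs ht, hsA.mul htB⟩
  | inv A _ ih =>
    obtain ⟨s, hs, h1, h2, h3⟩ := ih
    refine ⟨s⁻¹, inv_mem hs, ?_, ?_, fun x => ?_⟩
    · conv_lhs => rw [← h1]
      exact act_inv_self s e
    · conv_lhs => rw [← h2]
      exact act_inv_self s f
    · have : lin g x = act s (lin g ((A⁻¹ : Cfsg.SU 4 F 2).1.1 *ᵥ x)) := by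
        rw [h3, Matrix.mulVec_mulVec, show A.1.1 * (A⁻¹ : Cfsg.SU 4 F 2).1.1 = 1 from
          congrArg (fun B : Cfsg.SU 4 F 2 => B.1.1) (mul_inv_cancel A), Matrix.one_mulVec]
      conv_lhs => rw [this]
      exact act_inv_self s _

/-- the fixer of a hyperbolic pair is generated by the transvections fixing it -/
theorem mem_tvPerp_of_fix_pair (hF : Fintype.card F = 2 ^ 2) (h : Frame e f g) {s : Cfsg.SU 6 F 2}
    (he : act s e = e) (hf : act s f = f) : s ∈ tvPerp hF {e, f} := by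
  set M : Matrix (Fin 4) (Fin 4) F := Matrix.of fun i j => h⟪act s (g j), g i⟫ with hM
  have hmap : ∀ x, act s (lin g x) = lin g (M *ᵥ x) := by
    intro x
    have e1 : h⟪act s (lin g x), e⟫ = 0 := by conv_lhs => rw [← he, act_herm, (h.lin_orth x).1]
    have e2 : h⟪act s (lin g x), f⟫ = 0 := by conv_lhs => rw [← hf, act_herm, (h.lin_orth x).2]
    conv_lhs => rw [h.expand hF (act s (lin g x)), e1, e2, zero_smul, zero_smul, zero_add, zero_add]
    congr 1
    ext i
    have : act s (lin g x) = ∑ j, x j • act s (g j) := by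
      simp [lin, act, Matrix.mulVec_sum, Matrix.mulVec_smul]
    rw [this]
    simp [hM, Matrix.mulVec, dotProduct, herm_sum_left, herm_smul_left, mul_comm]
  have hpres : ∀ u v, Cfsg.hermForm 4 F 2 (M *ᵥ u) (M *ᵥ v) = Cfsg.hermForm 4 F 2 u v := by
    intro u v
    rw [← h.lin_herm hF, ← hmap, ← hmap, act_herm, h.lin_herm hF]
  set δ := M.det with hδ
  have hδn : δ * δ ^ 2 = 1 := det_norm_one hF (mkGU hF M hpres)
  have hδ0 : δ ≠ 0 := det_ne_zero_of_preserving hF hpres
  -- scale the first basis vector to reach determinant one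
  set R : Matrix (Fin 4) (Fin 4) F := rk1 2 (δ⁻¹ - 1) (Pi.single 0 1) (Pi.single 0 1) with hR
  have hRv : ∀ x : Fin 4 → F, R *ᵥ x = x + ((δ⁻¹ - 1) * x 0) • Pi.single 0 1 := by
    intro x
    rw [hR, rk1_mulVec]
    simp [Cfsg.hermForm, Pi.single_apply]
  have hRpres : ∀ u v, Cfsg.hermForm 4 F 2 (R *ᵥ u) (R *ᵥ v) = Cfsg.hermForm 4 F 2 u v := by
    intro u v
    rw [hRv, hRv]
    simp only [Cfsg.hermForm, Fin.sum_univ_four, Pi.add_apply, Pi.smul_apply, smul_eq_mul]
    simp [Pi.single_apply]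
    linear_combination (u 0 * v 0 ^ 2) * inv_norm_one hF hδn
  have hRdet : R.det = δ⁻¹ := by
    rw [hR, rk1_det]
    simp [Cfsg.hermForm, Pi.single_apply]
  let A : Cfsg.SU 4 F 2 := ⟨⟨M * R, by rw [Matrix.det_mul, hRdet, ← hδ, mul_inv_cancel₀ hδ0]⟩,
    fun u v => by
      show Cfsg.hermForm 4 F 2 ((M * R) *ᵥ u) ((M * R) *ᵥ v) = _
      rw [← Matrix.mulVec_mulVec, ← Matrix.mulVec_mulVec, hpres, hRpres]⟩
  obtain ⟨t, ht, htA⟩ := exists_actsAs hF h A
  -- what is left scales one vector and must be trivial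
  set d := s⁻¹ * t with hd
  have hdact : ∀ v, act d v = v + ((δ⁻¹ - 1) * h⟪v, g 0⟫) • g 0 := by
    intro v
    have hl : lin g (Pi.single 0 1) = g 0 := by simp [lin, Pi.single_apply]
    have key : act d (lin g fun i => h⟪v, g i⟫) = lin g (R *ᵥ fun i => h⟪v, g i⟫) := by
      rw [hd, act_mul, htA.2.2, show (A.1.1 : Matrix (Fin 4) (Fin 4) F) = M * R from rfl,
        ← Matrix.mulVec_mulVec, ← hmap, act_inv_self]
    have de : act d e = e := by
      rw [hd, act_mul, htA.1]; conv_lhs => rw [← he]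
      exact act_inv_self s e
    have df : act d f = f := by
      rw [hd, act_mul, htA.2.1]; conv_lhs => rw [← hf]
      exact act_inv_self s f
    conv_lhs => rw [h.expand hF v, act_add, act_add, act_smul, act_smul, de, df, key, hRv, lin_add, lin_smul,
      hl, ← add_assoc, ← h.expand hF v]
  have hdet : δ⁻¹ = 1 := by
    have hm : d.1.1 = rk1 2 (δ⁻¹ - 1) (g 0) (g 0) := by
      refine Matrix.toLin'.injective (LinearMap.ext fun v => ?_)
      rw [Matrix.toLin'_apply, Matrix.toLin'_apply, rk1_mulVec]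
      exact hdact v
    have h1 := d.1.2
    rw [hm, rk1_det, h.on 0 0] at h1
    simpa using h1
  have hd1 : d = 1 := ext' fun v => by rw [hdact, hdet, sub_self, zero_mul, zero_smul, add_zero, act_one]
  have hst : s = t := by rw [← inv_mul_eq_one, ← hd1]
  rw [hst]
  exact ht

/-- the fixer of an isotropic vector is generated by the transvections fixing it -/
theorem mem_tvPerp_of_fix (hF : Fintype.card F = 2 ^ 2) {e : Fin 6 → F} (he0 : e ≠ 0) (he : h⟪e, e⟫ = 0)
    {s : Cfsg.SU 6 F 2} (hs : act s e = e) : s ∈ tvPerp hF {e} := by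
  obtain ⟨f, hf⟩ := exists_hyp hF he0 he
  obtain ⟨k, hk, hkf⟩ := exists_move hF he (y := act s f) (y' := f) (by rw [act_herm]; exact hf.2.1) hf.2.1
    (by conv_lhs => rw [← hs, act_herm, hf.2.2]) hf.2.2
  obtain ⟨g, hfr⟩ := exists_Frame hF hf
  have := mem_tvPerp_of_fix_pair hF hfr (s := k * s) (by rw [act_mul, hs, act_fix hF hk e rfl])
    (by rw [act_mul, hkf])
  have h' := tvPerp_mono hF (Set.singleton_subset_iff.mpr (Set.mem_insert e {f})) this
  simpa using mul_mem (inv_mem hk) h'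

end Cfsg.Agent.Lib.UnitaryFour.Stabilizer
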