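import Mathlib
import Cfsg.Agent.Lib.UnitaryFour.Classes
import Cfsg.Agent.Lib.Unitary.Order

/-!
Numbers of isotropic vectors of the six-dimensional unitary space over four elements orthogonal to
one, two or three given isotropic vectors.
-/

set_option autoImplicit false
set_option linter.unusedSectionVars false
set_option linter.style.haveILetI false

namespace Cfsg.Agent.Lib.UnitaryFour.Counts

open Module Cfsg.Agent.Lib.Unitary Cfsg.Agent.Lib.UnitaryFour.Transvection
  Cfsg.Agent.Lib.UnitaryFour.Classes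

variable {F : Type*} [Field F] [Fintype F]

local notation "h⟪" u ", " v "⟫" => Cfsg.hermForm 6 F 2 u v

theorem countNull_values (hF : Fintype.card F = 2 ^ 2) :
    countNull F 2 0 = 1 ∧ countNull F 2 2 = 10 ∧ countNull F 2 4 = 136 ∧ countNull F 2 6 = 2080 := by
  refine ⟨countNull_zero F 2, ?_, ?_, ?_⟩ <;>
    rw [countNull_succ_eq hF] <;> simp [Nat.even_iff]

/-- isotropic vectors in the span of a radical part and an orthonormal part -/
theorem ncard_iso_span (hF : Fintype.card F = 2 ^ 2) {i k : ℕ} (r : Fin i → Fin 6 → F) (g : Fin k → Fin 6 → F)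
    (hli : LinearIndependent F (Sum.elim r g)) (hr : ∀ a b, h⟪r a, r b⟫ = 0) (hg : Orthonormal' 2 g)
    (hgr : ∀ a b, h⟪g a, r b⟫ = 0) :
    {v | (∃ (x : Fin i → F) (y : Fin k → F), v = ∑ a, x a • r a + ∑ a, y a • g a) ∧ h⟪v, v⟫ = 0}.ncard =
      4 ^ i * countNull F 2 k := by
  classical
  have hform : ∀ (x : Fin i → F) (y : Fin k → F),
      h⟪∑ a, x a • r a + ∑ a, y a • g a, ∑ a, x a • r a + ∑ a, y a • g a⟫ = Cfsg.hermForm k F 2 y y := by
    intro x y
    have e1 : ∀ b, h⟪∑ a, x a • r a + ∑ a, y a • g a, r b⟫ = 0 := fun b => by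
      simp [herm_add_left, herm_sum_left, herm_smul_left, hr, hgr]
    have e2 : ∀ b, h⟪∑ a, x a • r a + ∑ a, y a • g a, g b⟫ = y b := fun b => by
      simp [herm_add_left, herm_sum_left, herm_smul_left, herm_eq_zero_symm hF (hgr _ _), hg _ _]
    conv_lhs => rw [herm_add_right _ _ _ hF, herm_sum_right _ hF, herm_sum_right _ hF]
    simp only [herm_smul_right, e1, e2, mul_zero, Finset.sum_const_zero, zero_add]
    simp only [Cfsg.hermForm, mul_comm]
  have hinj : ∀ (x x' : Fin i → F) (y y' : Fin k → F),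
      ∑ a, x a • r a + ∑ a, y a • g a = ∑ a, x' a • r a + ∑ a, y' a • g a → x = x' ∧ y = y' := by
    intro x x' y y' he
    have := Fintype.linearIndependent_iff.mp hli (Sum.elim (x - x') (y - y')) (by
      rw [Fintype.sum_sum_type]
      simp only [Sum.elim_inl, Sum.elim_inr, Pi.sub_apply, sub_smul, Finset.sum_sub_distrib]
      rw [sub_add_sub_comm, sub_eq_zero, he])
    exact ⟨funext fun a => sub_eq_zero.mp (this (Sum.inl a)), funext fun a => sub_eq_zero.mp (this (Sum.inr a))⟩
  let f : (Fin i → F) × {y : Fin k → F // Cfsg.hermForm k F 2 y y = 0} → (Fin 6 → F) :=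
    fun p => ∑ a, p.1 a • r a + ∑ a, p.2.1 a • g a
  have hS : {v | (∃ (x : Fin i → F) (y : Fin k → F), v = ∑ a, x a • r a + ∑ a, y a • g a) ∧ h⟪v, v⟫ = 0} =
      Set.range f := by
    ext v
    constructor
    · rintro ⟨⟨x, y, rfl⟩, h0⟩
      exact ⟨⟨x, y, (hform x y).symm.trans h0⟩, rfl⟩
    · rintro ⟨⟨x, y, hy⟩, rfl⟩
      exact ⟨⟨x, y, rfl⟩, (hform x y).trans hy⟩
  have hfi : Function.Injective f := by
    rintro ⟨x, y, hy⟩ ⟨x', y', hy'⟩ he
    obtain ⟨rfl, rfl⟩ := hinj x x' y y' he
    rfl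
  rw [hS, ← Nat.card_coe_set_eq, Nat.card_range_of_injective hfi, Nat.card_prod, Nat.card_fun,
    Nat.card_eq_fintype_card (α := F), hF, Nat.card_eq_fintype_card (α := Fin i), Fintype.card_fin]
  rfl

/-- a vector is the combination given by its products with a dual basis -/
theorem eq_of_products (hF : Fintype.card F = 2 ^ 2) {ι : Type*} [Fintype ι] {B : ι → Fin 6 → F}
    (hB : LinearIndependent F B) (hc : Fintype.card ι = 6) {v w : Fin 6 → F}
    (h : ∀ j, h⟪v, B j⟫ = h⟪w, B j⟫) : v = w := by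
  refine sub_eq_zero.mp (herm_nondeg_left hF fun x => ?_)
  have hx : x ∈ Submodule.span F (Set.range B) := by
    rw [hB.span_eq_top_of_card_eq_finrank' (by simp [hc])]; exact Submodule.mem_top
  induction hx using Submodule.span_induction with
  | mem u hu => obtain ⟨j, rfl⟩ := hu; rw [herm_sub_left, h j, sub_self]
  | zero => exact herm_zero_right _ hF
  | add a b _ _ ha hb => rw [herm_add_right _ _ _ hF, ha, hb, add_zero]
  | smul a u _ hu => rw [herm_smul_right, hu, mul_zero]

theorem count_all (hF : Fintype.card F = 2 ^ 2) : {v : Fin 6 → F | h⟪v, v⟫ = 0}.ncard = 2080 :=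
  (countNull_values hF).2.2.2

theorem count_one (hF : Fintype.card F = 2 ^ 2) {e : Fin 6 → F} (he0 : e ≠ 0) (he : h⟪e, e⟫ = 0) :
    {v | h⟪v, e⟫ = 0 ∧ h⟪v, v⟫ = 0}.ncard = 544 := by
  obtain ⟨f, hf⟩ := exists_hyp hF he0 he
  obtain ⟨g, hg, hgo, hli⟩ := hf.exists_complement hF
  have hli' : LinearIndependent F (Sum.elim ![e] g) := by
    have := hli.comp (Sum.map (fun _ : Fin 1 => (0 : Fin 2)) id)
      (Function.Injective.sumMap (fun a b _ => Subsingleton.elim a b) Function.injective_id)
    convert this using 1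
    funext j
    rcases j with j | j
    · fin_cases j; simp
    · simp
  have := ncard_iso_span hF ![e] g hli' (fun a b => by fin_cases a; fin_cases b; simpa using he) hg
    (fun a b => by fin_cases b; simpa using (hgo a).1)
  rw [(countNull_values hF).2.2.1] at this
  norm_num only at this
  convert this using 2
  ext v
  simp only [Set.mem_ofPred_eq, Fin.sum_univ_one]
  refine and_congr_left fun _ => ⟨fun hv => ⟨fun _ => h⟪v, f⟫, fun a => h⟪v, g a⟫, ?_⟩, ?_⟩
  · refine eq_of_products hF hli (by simp) ?_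
    rintro (j | j)
    · fin_cases j <;>
        simp [herm_add_left, herm_smul_left, herm_sum_left, hv, he, hf.2.2, (hgo _).1, (hgo _).2]
    · simp [herm_add_left, herm_smul_left, herm_sum_left, hg _ _, herm_eq_zero_symm hF (hgo j).1]
  · rintro ⟨x, y, rfl⟩
    simp [herm_add_left, herm_smul_left, herm_sum_left, he, (hgo _).1]

theorem count_two (hF : Fintype.card F = 2 ^ 2) {e s : Fin 6 → F} (hli2 : LinearIndependent F ![e, s])
    (he : h⟪e, e⟫ = 0) (hs : h⟪s, s⟫ = 0) (hes : h⟪e, s⟫ = 0) :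
    {v | h⟪v, e⟫ = 0 ∧ h⟪v, s⟫ = 0 ∧ h⟪v, v⟫ = 0}.ncard = 160 := by
  obtain ⟨f, t, g, hef, hst, hfs, hte, htf, hg, hgo, hli⟩ := exists_frame hF hli2 he hs hes
  have hli' : LinearIndependent F (Sum.elim ![e, s] g) := by
    have := hli.comp (Sum.map (![0, 2] : Fin 2 → Fin 4) id)
      (Function.Injective.sumMap (fun a b h => by fin_cases a <;> fin_cases b <;> simp_all) Function.injective_id)
    convert this using 1
    funext j
    rcases j with j | j
    · fin_cases j <;> simp
    · simp
  have := ncard_iso_span hF ![e, s] g hli'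
    (fun a b => by fin_cases a <;> fin_cases b <;> simp [he, hs, hes, herm_eq_zero_symm hF hes]) hg
    (fun a b => by fin_cases b <;> simp [(hgo a).1, (hgo a).2.2.1])
  rw [(countNull_values hF).2.1] at this
  norm_num only at this
  convert this using 2
  ext v
  simp only [Set.mem_ofPred_eq, Fin.sum_univ_two, ← and_assoc]
  refine and_congr_left fun _ => ⟨fun hv => ⟨![h⟪v, f⟫, h⟪v, t⟫], fun a => h⟪v, g a⟫, ?_⟩, ?_⟩
  · refine eq_of_products hF hli (by simp) ?_
    rintro (j | j)
    · fin_cases j <;>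
        simp [herm_add_left, herm_smul_left, hv.1, hv.2, he, hs, hes, herm_eq_zero_symm hF hes,
          hef.2.2, hst.2.2, herm_eq_zero_symm hF hfs, herm_eq_zero_symm hF hte, (hgo _).1, (hgo _).2.1,
          (hgo _).2.2.1, (hgo _).2.2.2]
    · fin_cases j <;>
        simp [herm_add_left, herm_smul_left, hg _ _, herm_eq_zero_symm hF (hgo _).1,
          herm_eq_zero_symm hF (hgo _).2.2.1]
  · rintro ⟨x, y, rfl⟩
    constructor <;>
      simp [herm_add_left, herm_smul_left, he, hs, hes, herm_eq_zero_symm hF hes, (hgo _).1, (hgo _).2.2.1]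

theorem count_hyp (hF : Fintype.card F = 2 ^ 2) {e f : Fin 6 → F} (hef : Hyp 2 e f) :
    {v | h⟪v, e⟫ = 0 ∧ h⟪v, f⟫ = 0 ∧ h⟪v, v⟫ = 0}.ncard = 136 := by
  obtain ⟨g, hg, hgo, hli⟩ := hef.exists_complement hF
  have hli' : LinearIndependent F (Sum.elim (![] : Fin 0 → Fin 6 → F) g) := by
    have := hli.comp (Sum.map (![] : Fin 0 → Fin 2) id)
      (Function.Injective.sumMap (fun a _ _ => a.elim0) Function.injective_id)
    convert this using 1
    funext j
    rcases j with j | j
    · exact j.elim0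
    · simp
  have := ncard_iso_span hF ![] g hli' (fun a => a.elim0) hg (fun a b => b.elim0)
  rw [(countNull_values hF).2.2.1] at this
  norm_num only at this
  convert this using 2
  ext v
  simp only [Set.mem_ofPred_eq, Fin.sum_univ_zero, zero_add, ← and_assoc]
  refine and_congr_left fun _ => ⟨fun hv => ⟨![], fun a => h⟪v, g a⟫, ?_⟩, ?_⟩
  · refine eq_of_products hF hli (by simp) ?_
    rintro (j | j)
    · fin_cases j <;> simp [herm_sum_left, herm_smul_left, hv.1, hv.2, (hgo _).1, (hgo _).2]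
    · simp [herm_sum_left, herm_smul_left, hg _ _]
  · rintro ⟨x, y, rfl⟩
    constructor <;> simp [herm_sum_left, herm_smul_left, (hgo _).1, (hgo _).2]

theorem count_hyp_point (hF : Fintype.card F = 2 ^ 2) {e f q : Fin 6 → F} (hef : Hyp 2 e f) (hq0 : q ≠ 0)
    (hq : h⟪q, q⟫ = 0) (hqe : h⟪q, e⟫ = 0) (hqf : h⟪q, f⟫ = 0) :
    {v | h⟪v, e⟫ = 0 ∧ h⟪v, f⟫ = 0 ∧ h⟪v, q⟫ = 0 ∧ h⟪v, v⟫ = 0}.ncard = 40 := by
  have hli3 : LinearIndependent F ![e, f, q] := by
    rw [Fintype.linearIndependent_iff]
    intro x hx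
    rw [Fin.sum_univ_three] at hx
    simp only [Matrix.cons_val] at hx
    have h1 := congrArg (fun z => h⟪z, f⟫) hx
    have h2 := congrArg (fun z => h⟪z, e⟫) hx
    simp [herm_add_left, herm_smul_left, herm_zero_left, hef.1, hef.2.1, hef.2.2, hef.symm' hF, hqe, hqf] at h1 h2
    rw [h1, h2, zero_smul, zero_smul, zero_add, zero_add, smul_eq_zero] at hx
    intro j; fin_cases j
    · exact h1
    · exact h2
    · exact hx.resolve_right hq0
  obtain ⟨t, hqt, hto⟩ := exists_partner hF hli3 2
    (fun j => by fin_cases j <;> simp [hq, herm_eq_zero_symm hF hqe, herm_eq_zero_symm hF hqf])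
  have hqt' : Hyp 2 q t := by simpa using hqt
  have hte : h⟪t, e⟫ = 0 := by simpa using hto 0 (by decide)
  have htf : h⟪t, f⟫ = 0 := by simpa using hto 1 (by decide)
  set b : Fin 4 → Fin 6 → F := ![e, f, q, t]
  have hco : ∀ (x : Fin 4 → F) (j : Fin 4), h⟪∑ i, x i • b i, b j⟫ = ![x 1, x 0, x 3, x 2] j := by
    intro x j
    simp only [Fin.sum_univ_four]
    fin_cases j <;>
      simp [b, herm_add_left, herm_smul_left, hef.1, hef.2.1, hef.2.2, hef.symm' hF, hqt'.1, hqt'.2.1, hqt'.2.2, hqt'.symm' hF, hqe,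
        herm_eq_zero_symm hF hqe, hqf, herm_eq_zero_symm hF hqf, hte, herm_eq_zero_symm hF hte, htf,
        herm_eq_zero_symm hF htf]
  have hnd : ∀ x : Fin 4 → F, (∀ j, h⟪∑ i, x i • b i, b j⟫ = 0) → x = 0 := by
    intro x hx
    ext i
    fin_cases i
    · simpa [hco] using hx 1
    · simpa [hco] using hx 0
    · simpa [hco] using hx 3
    · simpa [hco] using hx 2
  have hbli : LinearIndependent F b := Fintype.linearIndependent_iff.2 fun x hx j => by
    rw [hnd x fun j => by rw [hx, herm_zero_left]]; rfl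
  set W := Submodule.span F (Set.range b)
  have hW : Nondeg 2 W := by
    intro u hu hv
    obtain ⟨x, rfl⟩ := (Submodule.mem_span_range_iff_exists_fun F).1 hu
    simp [hnd x fun j => hv _ (Submodule.subset_span ⟨j, rfl⟩)]
  have hWk : finrank F W = 4 := by rw [finrank_span_eq_card hbli, Fintype.card_fin]
  have hk : finrank F (Cfsg.Agent.Lib.Unitary.perp 2 W) = 2 := by have := finrank_perp hF W; omega
  obtain ⟨g, hg, hgW, -⟩ := exists_orthonormal_of_nondeg hF _ _ hk (nondeg_perp hF hW)
  have hgb : ∀ i j, h⟪g i, b j⟫ = 0 := fun i j => hgW i _ (Submodule.subset_span ⟨j, rfl⟩)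
  have hli : LinearIndependent F (Sum.elim b g) := by
    refine linearIndependent_sum.2 ⟨hbli, orthonormal_linearIndependent hg, ?_⟩
    simp only [Sum.elim_comp_inl, Sum.elim_comp_inr]
    exact Disjoint.mono le_rfl (Submodule.span_le.2 (Set.range_subset_iff.2 hgW)) (isCompl_perp hF hW).disjoint
  have hli' : LinearIndependent F (Sum.elim ![q] g) := by
    have := hli.comp (Sum.map (fun _ : Fin 1 => (2 : Fin 4)) id)
      (Function.Injective.sumMap (fun a b _ => Subsingleton.elim a b) Function.injective_id)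
    convert this using 1
    funext j
    rcases j with j | j
    · fin_cases j; simp [b]
    · simp
  have hgq : ∀ i, h⟪g i, q⟫ = 0 := fun i => hgb i 2
  have hge : ∀ i, h⟪g i, e⟫ = 0 := fun i => hgb i 0
  have hgf : ∀ i, h⟪g i, f⟫ = 0 := fun i => hgb i 1
  have hgt : ∀ i, h⟪g i, t⟫ = 0 := fun i => hgb i 3
  have := ncard_iso_span hF ![q] g hli' (fun a b => by fin_cases a; fin_cases b; simpa using hq) hg
    (fun a b => by fin_cases b; simpa using hgq a)
  rw [(countNull_values hF).2.1] at this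
  norm_num only at this
  convert this using 2
  ext v
  simp only [Set.mem_ofPred_eq, Fin.sum_univ_one, ← and_assoc]
  refine and_congr_left fun _ => ⟨fun hv => ⟨fun _ => h⟪v, t⟫, fun a => h⟪v, g a⟫, ?_⟩, ?_⟩
  · refine eq_of_products hF hli (by simp) ?_
    rintro (j | j)
    · fin_cases j <;>
        simp [b, herm_add_left, herm_smul_left, herm_sum_left, hv.1.1, hv.1.2, hv.2, hq, hqe, hqf, hqt'.2.2,
          hge, hgf, hgq, hgt]
    · fin_cases j <;> simp [herm_add_left, herm_smul_left, herm_sum_left, hg _ _, herm_eq_zero_symm hF (hgq _)]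
  · rintro ⟨x, y, rfl⟩
    refine ⟨⟨?_, ?_⟩, ?_⟩ <;>
      simp [herm_add_left, herm_smul_left, herm_sum_left, hq, hqe, hqf, hge, hgf, hgq]

/-- three independent pairwise orthogonal isotropic vectors have their span as orthogonal -/
theorem count_plane (hF : Fintype.card F = 2 ^ 2) {r : Fin 3 → Fin 6 → F} (hli : LinearIndependent F r)
    (hr : ∀ a b, h⟪r a, r b⟫ = 0) :
    {v | (∀ a, h⟪v, r a⟫ = 0) ∧ h⟪v, v⟫ = 0}.ncard = 64 := by
  set W := Submodule.span F (Set.range r) with hW
  have hle : W ≤ Cfsg.Agent.Lib.Unitary.perp 2 W := by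
    rw [hW, Submodule.span_le]
    rintro _ ⟨a, rfl⟩ x hx
    induction hx using Submodule.span_induction with
    | mem u hu => obtain ⟨j, rfl⟩ := hu; exact hr a j
    | zero => exact herm_zero_right _ hF
    | add x y _ _ hx hy => rw [herm_add_right _ _ _ hF, hx, hy, add_zero]
    | smul c u _ hu => rw [herm_smul_right, hu, mul_zero]
  have h3 : finrank F W = 3 := by rw [hW, finrank_span_eq_card hli, Fintype.card_fin]
  have heq : W = Cfsg.Agent.Lib.Unitary.perp 2 W := by
    refine Submodule.eq_of_le_of_finrank_le hle ?_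
    have := finrank_perp hF W
    omega
  have hset : {v | (∀ a, h⟪v, r a⟫ = 0) ∧ h⟪v, v⟫ = 0} = (W : Set (Fin 6 → F)) := by
    ext v
    constructor
    · intro hv
      rw [SetLike.mem_coe, heq]
      intro x hx
      induction hx using Submodule.span_induction with
      | mem u hu => obtain ⟨j, rfl⟩ := hu; exact hv.1 j
      | zero => exact herm_zero_right _ hF
      | add x y _ _ hx hy => rw [herm_add_right _ _ _ hF, hx, hy, add_zero]
      | smul c u _ hu => rw [herm_smul_right, hu, mul_zero]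
    · intro hv
      exact ⟨fun a => hle hv _ (Submodule.subset_span ⟨a, rfl⟩), hle hv _ hv⟩
  rw [hset, ← Nat.card_coe_set_eq]
  show Nat.card W = 64
  rw [Module.natCard_eq_pow_finrank (K := F), h3, Nat.card_eq_fintype_card, hF]
  norm_num

end Cfsg.Agent.Lib.UnitaryFour.Counts
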