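import Mathlib
import Cfsg.Agent.Lib.UnitaryFour.Stabilizer
import Cfsg.Agent.Lib.AutPSU.Root

/-!
The stabiliser of an isotropic vector in SU(6,2): an extension of the special group of order 2^9 of
Eichler transformations by SU(4,2) acting on the orthogonal of a hyperbolic pair.
-/

set_option autoImplicit false
set_option linter.unusedSectionVars false
set_option linter.style.haveILetI false

namespace Cfsg.Agent.Lib.UnitaryFour.PointStab

open Matrix Module Cfsg.Agent.Lib.Unitary Cfsg.Agent.Lib.UnitaryFour.Transvection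
  Cfsg.Agent.Lib.UnitaryFour.Stabilizer
open Cfsg.Agent.Lib.AutPSU (PS QS RS mem_RS_iff exists_SU_eich exists_SU_tv mem_QS_of_eich
  RS_le_QS QS_le_PS PS_le_NS NS_conj_QS)

variable {F : Type*} [Field F] [Fintype F]

local notation "h⟪" u ", " v "⟫" => Cfsg.hermForm 6 F 2 u v
local notation "h₄⟪" u ", " v "⟫" => Cfsg.hermForm 4 F 2 u v

variable {e f : Fin 6 → F} {g : Fin 4 → Fin 6 → F}

theorem mem_PS {s : Cfsg.SU 6 F 2} : s ∈ PS e ↔ act s e = e := Iff.rfl

theorem lin_inj (hfr : Frame e f g) {x y : Fin 4 → F} (h : lin g x = lin g y) : x = y := by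
  funext i
  have := congrArg (fun v => h⟪v, g i⟫) h
  simpa [lin, orthonormal_coeff hfr.on] using this

theorem lin_zero : lin g (0 : Fin 4 → F) = 0 := by simp [lin]

theorem herm_act (hF : Fintype.card F = 2 ^ 2) (hfr : Frame e f g) {s : Cfsg.SU 6 F 2} (hs : act s e = e) :
    h⟪act s f, e⟫ = 1 := by
  calc h⟪act s f, e⟫ = h⟪act s f, act s e⟫ := by rw [hs]
    _ = 1 := by rw [act_herm, hfr.hyp.symm' hF]

/-- vectors orthogonal to `e` -/
theorem expand_orth (hF : Fintype.card F = 2 ^ 2) (hfr : Frame e f g) {v : Fin 6 → F}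
    (hv : h⟪v, e⟫ = 0) : v = h⟪v, f⟫ • e + lin g (fun i => h⟪v, g i⟫) := by
  conv_lhs => rw [hfr.expand hF v, hv, zero_smul, add_zero]

theorem herm_iota (hfr : Frame e f g) (x : Fin 4 → F) (a : F) :
    h⟪lin g x + a • e, e⟫ = 0 := by
  rw [herm_add_left, herm_smul_left, (hfr.lin_orth x).1, hfr.hyp.1, mul_zero, add_zero]

theorem herm_orth (hF : Fintype.card F = 2 ^ 2) (hfr : Frame e f g) (x y : Fin 4 → F) (a b : F) :
    h⟪lin g x + a • e, lin g y + b • e⟫ = h₄⟪x, y⟫ := by
  simp [herm_add_left, herm_add_right _ _ _ hF, herm_smul_left, herm_smul_right, hfr.lin_herm hF,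
    (hfr.lin_orth _).1, herm_eq_zero_symm hF (hfr.lin_orth _).1, hfr.hyp.1]

/-- the copy of SU(4,2) fixing the pair -/
noncomputable def emb (hF : Fintype.card F = 2 ^ 2) (hfr : Frame e f g) :
    Cfsg.SU 4 F 2 →* Cfsg.SU 6 F 2 :=
  MonoidHom.mk' (fun A => (exists_actsAs hF hfr A).choose) fun A B =>
    ((exists_actsAs hF hfr (A * B)).choose_spec.2).unique hF hfr
      (((exists_actsAs hF hfr A).choose_spec.2).mul ((exists_actsAs hF hfr B).choose_spec.2))

theorem emb_acts (hF : Fintype.card F = 2 ^ 2) (hfr : Frame e f g) (A : Cfsg.SU 4 F 2) :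
    ActsAs e f g A (emb hF hfr A) := (exists_actsAs hF hfr A).choose_spec.2

theorem emb_mem (hF : Fintype.card F = 2 ^ 2) (hfr : Frame e f g) (A : Cfsg.SU 4 F 2) :
    emb hF hfr A ∈ PS e := (emb_acts hF hfr A).1

/-- an element fixing the pair comes from SU(4,2) -/
theorem exists_emb (hF : Fintype.card F = 2 ^ 2) (hfr : Frame e f g) {s : Cfsg.SU 6 F 2}
    (he : act s e = e) (hf : act s f = f) : ∃ A, emb hF hfr A = s := by
  have hle : tvPerp hF {e, f} ≤ (emb hF hfr).range := by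
    refine (Subgroup.closure_le _).mpr ?_
    rintro t ⟨u, hu, -, hS, rfl⟩
    set x : Fin 4 → F := fun i => h⟪u, g i⟫
    have hux : u = lin g x := by
      have := hfr.expand hF u
      rwa [hS e (by simp), hS f (by simp), zero_smul, zero_smul, zero_add, zero_add] at this
    have hx : h₄⟪x, x⟫ = 0 := by rw [← hfr.lin_herm hF, ← hux, hu]
    refine ⟨tv hF x hx, (emb_acts hF hfr _).unique hF hfr ⟨?_, ?_, fun y => ?_⟩⟩
    · rw [act_tv, herm_eq_zero_symm hF (hS e (by simp)), zero_smul, add_zero]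
    · rw [act_tv, herm_eq_zero_symm hF (hS f (by simp)), zero_smul, add_zero]
    · rw [act_tv, show (tv hF x hx).1.1.mulVec y = y + h₄⟪y, x⟫ • x from act_tv hF hx y,
        lin_add, lin_smul, hux, hfr.lin_herm hF]
  exact hle (mem_tvPerp_of_fix_pair hF hfr he hf)

/-- every element of the point stabiliser is a Eichler transformation times an element fixing the pair -/
theorem exists_decomp (hF : Fintype.card F = 2 ^ 2) (hfr : Frame e f g) {s : Cfsg.SU 6 F 2}
    (hs : s ∈ PS e) : ∃ A, s * (emb hF hfr A)⁻¹ ∈ QS e := by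
  have hs' : act s e = e := hs
  have hse : h⟪act s f, e⟫ = 1 := by
    conv_lhs => rw [← hs', act_herm]
    exact hfr.hyp.symm' hF
  set d := h⟪act s f, f⟫
  set x : Fin 4 → F := fun i => h⟪act s f, g i⟫
  have hexp : act s f = d • e + f + lin g x := by
    conv_lhs => rw [hfr.expand hF (act s f), hse, one_smul]
  have hd : d + d ^ 2 + h⟪lin g x, lin g x⟫ = 0 := by
    have h0 : h⟪act s f, act s f⟫ = 0 := by rw [act_herm]; exact hfr.hyp.2.1
    rw [hexp] at h0
    simp only [herm_add_left, herm_add_right _ _ _ hF, herm_smul_left, herm_smul_right, hfr.hyp.1,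
      hfr.hyp.2.1, hfr.hyp.2.2, hfr.hyp.symm' hF, (hfr.lin_orth x).1, (hfr.lin_orth x).2,
      herm_eq_zero_symm hF (hfr.lin_orth x).1, herm_eq_zero_symm hF (hfr.lin_orth x).2, mul_zero,
      mul_one, zero_add, add_zero] at h0
    linear_combination h0
  obtain ⟨X, hX⟩ := exists_SU_eich (n := 6) hF hfr.hyp.1 (hfr.lin_orth x).1 hd
  have hXQ : X ∈ QS e := mem_QS_of_eich hF hfr.hyp.1 (hfr.lin_orth x).1 hX
  have hXf : act X f = act s f := by
    rw [hexp]
    show X.1.1 *ᵥ f = _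
    rw [← suToGU_val, hX f, hfr.hyp.symm' hF, herm_eq_zero_symm hF (hfr.lin_orth x).2]
    simp only [one_smul, mul_one, sub_zero]
    abel
  have hXe : act X e = e := hXQ.1
  have h1 : act (X⁻¹ * s) e = e := by
    rw [act_mul, hs']; conv_lhs => rw [← hXe]
    exact act_inv_self X e
  have h2 : act (X⁻¹ * s) f = f := by rw [act_mul, ← hXf, act_inv_self]
  obtain ⟨A, hA⟩ := exists_emb hF hfr h1 h2
  refine ⟨A, ?_⟩
  rw [hA, _root_.mul_inv_rev, inv_inv, ← mul_assoc, mul_inv_cancel, one_mul]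
  exact hXQ

theorem emb_mem_QS (hF : Fintype.card F = 2 ^ 2) (hfr : Frame e f g) {A : Cfsg.SU 4 F 2}
    (h : emb hF hfr A ∈ QS e) : A = 1 := by
  refine ext' fun x => ?_
  obtain ⟨a, ha⟩ := h.2 (lin g x) (hfr.lin_orth x).1
  have h1 : lin g (A.1.1 *ᵥ x) = lin g x + a • e := by
    rw [← (emb_acts hF hfr A).2.2 x]; exact ha
  have ha0 : a = 0 := by
    have h2 := congrArg (fun v => h⟪v, f⟫) h1
    simpa [herm_add_left, herm_smul_left, (hfr.lin_orth _).2, hfr.hyp.2.2] using h2.symm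
  rw [act_one]
  exact lin_inj hfr (h1.trans (by rw [ha0, zero_smul, add_zero]))

theorem conj_mem_QS {s : Cfsg.SU 6 F 2} (hs : s ∈ PS e) {t : Cfsg.SU 6 F 2} (ht : t ∈ QS e) :
    s * t * s⁻¹ ∈ QS e := NS_conj_QS (PS_le_NS e hs) ht

theorem decomp_unique (hF : Fintype.card F = 2 ^ 2) (hfr : Frame e f g) {s : Cfsg.SU 6 F 2}
    {A B : Cfsg.SU 4 F 2} (hA : s * (emb hF hfr A)⁻¹ ∈ QS e) (hB : s * (emb hF hfr B)⁻¹ ∈ QS e) :
    A = B := by
  have h := mul_mem (inv_mem hA) hB
  rw [_root_.mul_inv_rev, inv_inv, mul_assoc, inv_mul_cancel_left, ← map_inv, ← map_mul] at h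
  exact mul_inv_eq_one.mp (emb_mem_QS hF hfr h)

/-- the action on the orthogonal of `e` modulo `e` -/
noncomputable def proj (hF : Fintype.card F = 2 ^ 2) (hfr : Frame e f g) :
    ↥(PS (q := 2) e) →* Cfsg.SU 4 F 2 :=
  MonoidHom.mk' (fun s => (exists_decomp hF hfr s.2).choose) fun s t => by
    refine decomp_unique hF hfr (exists_decomp hF hfr (s * t).2).choose_spec ?_
    have hA := (exists_decomp hF hfr s.2).choose_spec
    have hB := (exists_decomp hF hfr t.2).choose_spec
    generalize (exists_decomp hF hfr s.2).choose = A at hA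
    generalize (exists_decomp hF hfr t.2).choose = B at hB
    have := mul_mem hA (conj_mem_QS (emb_mem hF hfr A) hB)
    rw [map_mul, Subgroup.coe_mul]
    convert this using 1
    group

theorem proj_spec (hF : Fintype.card F = 2 ^ 2) (hfr : Frame e f g) (s : ↥(PS (q := 2) e)) :
    (s : Cfsg.SU 6 F 2) * (emb hF hfr (proj hF hfr s))⁻¹ ∈ QS e :=
  (exists_decomp hF hfr s.2).choose_spec

theorem proj_emb (hF : Fintype.card F = 2 ^ 2) (hfr : Frame e f g) (A : Cfsg.SU 4 F 2) :
    proj hF hfr ⟨emb hF hfr A, emb_mem hF hfr A⟩ = A :=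
  decomp_unique hF hfr (proj_spec hF hfr _) (by simp [one_mem])

theorem proj_surjective (hF : Fintype.card F = 2 ^ 2) (hfr : Frame e f g) :
    Function.Surjective (proj hF hfr) := fun A => ⟨_, proj_emb hF hfr A⟩

theorem proj_eq_one_iff (hF : Fintype.card F = 2 ^ 2) (hfr : Frame e f g) (s : ↥(PS (q := 2) e)) :
    proj hF hfr s = 1 ↔ (s : Cfsg.SU 6 F 2) ∈ QS e := by
  constructor
  · intro h
    have := proj_spec hF hfr s
    rwa [h, map_one, inv_one, mul_one] at this
  · exact fun h => decomp_unique hF hfr (proj_spec hF hfr s) (by simpa using h)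

theorem act_lin (hF : Fintype.card F = 2 ^ 2) (hfr : Frame e f g) (s : ↥(PS (q := 2) e))
    (x : Fin 4 → F) : ∃ c : F, act (s : Cfsg.SU 6 F 2) (lin g x) = lin g (act (proj hF hfr s) x) + c • e := by
  set A := proj hF hfr s
  obtain ⟨c, hc⟩ := (proj_spec hF hfr s).2 (lin g (act A x)) (hfr.lin_orth _).1
  refine ⟨c, ?_⟩
  rw [← hc]
  show _ = act ((s : Cfsg.SU 6 F 2) * (emb hF hfr A)⁻¹) (lin g (A.1.1 *ᵥ x))
  rw [act_mul, ← (emb_acts hF hfr A).2.2 x, act_inv_self]

/-- a transvection fixing `e` acts as the projected transvection -/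
theorem proj_tv (hF : Fintype.card F = 2 ^ 2) (hfr : Frame e f g) {u : Fin 6 → F} {x : Fin 4 → F}
    (hu : h⟪u, u⟫ = 0) (hx : h₄⟪x, x⟫ = 0) {a : F} (hux : u = lin g x + a • e)
    (hmem : tv hF u hu ∈ PS e) : proj hF hfr ⟨tv hF u hu, hmem⟩ = tv hF x hx := by
  refine ext' fun y => ?_
  obtain ⟨c, hc⟩ := act_lin hF hfr ⟨tv hF u hu, hmem⟩ y
  have h1 : h⟪lin g y, u⟫ = h₄⟪y, x⟫ := by
    have := herm_orth hF hfr y x 0 a
    rwa [zero_smul, add_zero, ← hux] at this
  rw [act_tv, h1] at hc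
  refine lin_inj hfr ?_
  subst hux
  rw [smul_add, smul_smul, ← add_assoc] at hc
  have h2 : h₄⟪y, x⟫ * a = c := by
    have := congrArg (fun v => h⟪v, f⟫) hc
    simpa [herm_add_left, herm_smul_left, (hfr.lin_orth _).2, hfr.hyp.2.2] using this
  rw [h2] at hc
  rw [act_tv, lin_add, lin_smul]
  exact (add_right_cancel hc).symm

/-- transvections with equal centres up to scalars -/
theorem parallel_of_tv_eq (hF : Fintype.card F = 2 ^ 2) {n : ℕ} {x y : Fin n → F}
    (hy0 : y ≠ 0) (hx : Cfsg.hermForm n F 2 x x = 0) (hy : Cfsg.hermForm n F 2 y y = 0)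
    (h : tv hF x hx = tv hF y hy) : ∃ c : F, c ≠ 0 ∧ y = c • x := by
  obtain ⟨v, hv⟩ := exists_hyp hF hy0 hy
  have h1 := congrArg (fun t => act t v) h
  simp only [act_tv, hv.symm' hF, one_smul, add_right_inj] at h1
  refine ⟨_, fun hc => hy0 ?_, h1.symm⟩
  rw [← h1, hc, zero_smul]

/-- a translation along `e` -/
theorem exists_translate (hF : Fintype.card F = 2 ^ 2) (hfr : Frame e f g) {x : Fin 4 → F}
    (hx : x ≠ 0) (a b : F) :
    ∃ q ∈ QS (q := 2) e, act q (lin g x + a • e) = lin g x + b • e := by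
  obtain ⟨i, hi⟩ := Function.ne_iff.mp hx
  have hi' : x i ≠ 0 := hi
  set μ := (a - b) / x i
  set y : Fin 4 → F := μ ^ 2 • Pi.single i 1
  have hμ : (μ ^ 2) ^ 2 = μ := by
    rcases eq_or_ne μ 0 with h0 | h0
    · simp [h0]
    · linear_combination μ * cube_eq_one hF h0
  have hxy : h₄⟪x, y⟫ = a - b := by
    have h1 : h₄⟪x, Pi.single i 1⟫ = x i := by simp [Cfsg.hermForm, Pi.single_apply]
    rw [show y = μ ^ 2 • Pi.single i 1 from rfl, herm_smul_right, h1, hμ]
    exact div_mul_cancel₀ _ hi'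
  obtain ⟨d, hd⟩ := exists_eich_param (n := 6) hF (lin g y)
  obtain ⟨X, hX⟩ := exists_SU_eich (n := 6) hF hfr.hyp.1 (hfr.lin_orth y).1 hd
  refine ⟨X, mem_QS_of_eich hF hfr.hyp.1 (hfr.lin_orth y).1 hX, ?_⟩
  show X.1.1 *ᵥ _ = _
  rw [← suToGU_val, hX _, herm_iota hfr, zero_smul, add_zero, mul_zero, zero_sub]
  have h2 : h⟪lin g x + a • e, lin g y⟫ = a - b := by
    have := herm_orth hF hfr x y a 0
    rwa [zero_smul, add_zero, hxy] at this
  rw [h2, neg_sub, add_assoc, ← add_smul, add_sub_cancel]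

/-- Eichler transformations fixing a projective point off `e` fix its vector -/
theorem fix_of_parallel (hF : Fintype.card F = 2 ^ 2) (hfr : Frame e f g) {q : Cfsg.SU 6 F 2} (hq : q ∈ QS e)
    {x : Fin 4 → F} (hx : x ≠ 0) {a c : F} (h : act q (lin g x + a • e) = c • (lin g x + a • e)) :
    act q (lin g x) = lin g x := by
  obtain ⟨k, hk⟩ := hq.2 (lin g x) (hfr.lin_orth x).1
  have hk' : act q (lin g x) = lin g x + k • e := hk
  have hqe : act q e = e := hq.1
  rw [act_add, act_smul, hk', hqe] at h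
  have hc : c = 1 := by
    obtain ⟨i, hi⟩ := Function.ne_iff.mp hx
    have h2 := congrArg (fun v => h⟪v, g i⟫) h
    have ho : h⟪e, g i⟫ = 0 := herm_eq_zero_symm hF (hfr.orth i).1
    simp [herm_add_left, herm_smul_left, ho, lin, orthonormal_coeff hfr.on] at h2
    exact (mul_eq_right₀ hi).mp h2.symm
  rw [hc, one_smul, add_assoc, add_right_inj] at h
  have : k • e = 0 := by
    have := congrArg (fun v => v - a • e) h
    simpa using this
  rw [hk', this, add_zero]

/-- an element fixing the isotropic lines in the orthogonal of `e` -/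
theorem mem_RS_of_fix_points (hF : Fintype.card F = 2 ^ 2) (hfr : Frame e f g) 
    {s : Cfsg.SU 6 F 2} (hs : s ∈ PS e)
    (h : ∀ x : Fin 4 → F, h₄⟪x, x⟫ = 0 → x ≠ 0 → ∀ a : F, ∃ c : F,
      act s (lin g x + a • e) = c • (lin g x + a • e)) : s ∈ RS e := by
  have hs' : act s e = e := hs
  have hfix : ∀ x : Fin 4 → F, h₄⟪x, x⟫ = 0 → act s (lin g x) = lin g x := by
    intro x hx
    rcases eq_or_ne x 0 with rfl | hx0
    · rw [lin_zero]; exact Matrix.mulVec_zero _
    obtain ⟨c, hc⟩ := h x hx hx0 0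
    rw [zero_smul, add_zero] at hc
    obtain ⟨c', hc'⟩ := h x hx hx0 1
    rw [one_smul, act_add, hc, hs', smul_add] at hc'
    have h1 : c' = 1 := by
      have := congrArg (fun v => h⟪v, f⟫) hc'
      simpa [herm_add_left, herm_smul_left, (hfr.lin_orth _).2, hfr.hyp.2.2] using this.symm
    rw [h1, one_smul, one_smul, add_left_inj] at hc'
    rw [hc, hc']
  have hall : ∀ x : Fin 4 → F, x ∈ Submodule.span F {v : Fin 4 → F | h₄⟪v, v⟫ = 0} →
      act s (lin g x) = lin g x := by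
    intro x hx
    induction hx using Submodule.span_induction with
    | mem u hu => exact hfix u hu
    | zero => rw [lin_zero]; exact Matrix.mulVec_zero _
    | add a b _ _ ha hb => rw [lin_add, act_add, ha, hb]
    | smul a u _ hu => rw [lin_smul, act_smul, hu]
  intro v hv
  show act s v = v
  rw [expand_orth hF hfr hv, act_add, act_smul, hs', hall]
  have htop : Submodule.span F {v : Fin 4 → F | h₄⟪v, v⟫ = 0} = ⊤ := by
    rw [eq_top_iff, ← (Pi.basisFun F (Fin 4)).span_eq, Submodule.span_le]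
    rintro _ ⟨i, rfl⟩
    rw [Pi.basisFun_apply]
    exact single_mem_span hF (by norm_num) i
  rw [htop]; exact Submodule.mem_top

/-- the Eichler transformations read on the orthogonal of the pair -/
theorem RS_eq (hF : Fintype.card F = 2 ^ 2) (hfr : Frame e f g) {X : Cfsg.SU 6 F 2} :
    X ∈ RS e ↔ X = 1 ∨ X = tv hF e hfr.hyp.1 := by
  rw [mem_RS_iff hF hfr.hyp]
  constructor
  · rintro ⟨c, hc, hX⟩
    rcases eq_or_ne c 0 with rfl | hc0
    · exact Or.inl (ext' fun v => by
        rw [act_one]; show X.1.1 *ᵥ v = v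
        rw [← suToGU_val, hX v, zero_mul, zero_smul, add_zero])
    · have hc1 : c = 1 := by
        have : c * (c + 1) = 0 := by linear_combination hc
        linear_combination (mul_eq_zero.mp this).resolve_left hc0 - two_eq_zero hF
      exact Or.inr (ext' fun v => by
        rw [act_tv]; show X.1.1 *ᵥ v = _
        rw [← suToGU_val, hX v, hc1, one_mul])
  · rintro (rfl | rfl)
    · exact ⟨0, by simp, fun v => by simp⟩
    · exact ⟨1, by linear_combination two_eq_zero hF, fun v => by rw [one_mul]; exact act_tv hF hfr.hyp.1 v⟩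

theorem card_RS (hF : Fintype.card F = 2 ^ 2) (hfr : Frame e f g) :
    Nat.card ↥(RS (q := 2) e) = 2 := by
  have hne : tv hF e hfr.hyp.1 ≠ 1 := by
    intro h
    have h1 := congrArg (fun t => act t f) h
    simp only [act_tv, act_one, hfr.hyp.symm' hF, one_smul] at h1
    have h2 := congrArg (fun v => h⟪v, f⟫) h1
    simp [herm_add_left, hfr.hyp.2.1, hfr.hyp.2.2] at h2
  rw [show Nat.card ↥(RS (q := 2) e) = (RS (q := 2) e : Set (Cfsg.SU 6 F 2)).ncard from
    Nat.card_coe_set_eq _]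
  rw [show (RS (q := 2) e : Set (Cfsg.SU 6 F 2)) = {1, tv hF e hfr.hyp.1} from Set.ext fun X => RS_eq hF hfr]
  exact Set.ncard_pair (Ne.symm hne)

/-- the translation part of an Eichler transformation -/
noncomputable def shift (hF : Fintype.card F = 2 ^ 2) (hfr : Frame e f g) :
    ↥(QS (q := 2) e) →* Multiplicative (Fin 4 → F) :=
  MonoidHom.mk' (fun X => Multiplicative.ofAdd fun i => h⟪act (X : Cfsg.SU 6 F 2) f, g i⟫) fun X Y => by
    rw [← ofAdd_add]
    refine congrArg Multiplicative.ofAdd (funext fun i => ?_)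
    have hY : h⟪act (Y : Cfsg.SU 6 F 2) f - f, e⟫ = 0 := by
      rw [herm_sub_left, hfr.hyp.symm' hF, herm_act hF hfr Y.2.1, sub_self]
    obtain ⟨k, hk⟩ := X.2.2 _ hY
    have h1 : act ((X : Cfsg.SU 6 F 2) * (Y : Cfsg.SU 6 F 2)) f =
        act (X : Cfsg.SU 6 F 2) f + (act (Y : Cfsg.SU 6 F 2) f - f) + k • e := by
      rw [act_mul]
      conv_lhs => rw [show act (Y : Cfsg.SU 6 F 2) f = f + (act (Y : Cfsg.SU 6 F 2) f - f) by abel, act_add]
      rw [show act (X : Cfsg.SU 6 F 2) (act (Y : Cfsg.SU 6 F 2) f - f) = _ from hk, add_assoc]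
    simp only [Subgroup.coe_mul, Pi.add_apply, h1, herm_add_left, herm_sub_left, herm_smul_left,
      herm_eq_zero_symm hF (hfr.orth i).1, herm_eq_zero_symm hF (hfr.orth i).2, mul_zero, add_zero,
      sub_zero]

theorem shift_eq_one_iff (hF : Fintype.card F = 2 ^ 2) (hfr : Frame e f g) (X : ↥(QS (q := 2) e)) :
    shift hF hfr X = 1 ↔ (X : Cfsg.SU 6 F 2) ∈ RS e := by
  constructor
  · intro h v hv
    have h' : ∀ i, h⟪act (X : Cfsg.SU 6 F 2) f, g i⟫ = 0 := fun i =>
      congrFun (congrArg Multiplicative.toAdd h) i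
    obtain ⟨k, hk⟩ := X.2.2 v hv
    have h3 := act_herm (X : Cfsg.SU 6 F 2) v f
    have hXe : act (X : Cfsg.SU 6 F 2) e = e := X.2.1
    have hXf1 : h⟪act (X : Cfsg.SU 6 F 2) f, e⟫ = 1 := herm_act hF hfr hXe
    have hXf : act (X : Cfsg.SU 6 F 2) f = h⟪act (X : Cfsg.SU 6 F 2) f, f⟫ • e + f := by
      conv_lhs => rw [hfr.expand hF (act _ f), hXf1, one_smul]
      simp [lin, h']
    rw [show act (X : Cfsg.SU 6 F 2) v = _ from hk, hXf] at h3
    simp only [herm_add_left, herm_add_right _ _ _ hF, herm_smul_left, herm_smul_right, hfr.hyp.1,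
      hfr.hyp.2.2, hv, mul_zero, mul_one, zero_add, add_eq_left] at h3
    show act (X : Cfsg.SU 6 F 2) v = v
    rw [show act (X : Cfsg.SU 6 F 2) v = _ from hk, h3, zero_smul, add_zero]
  · intro h
    refine congrArg Multiplicative.ofAdd (funext fun i => ?_)
    have h1 : act (X : Cfsg.SU 6 F 2) (g i) = g i := h _ (hfr.orth i).1
    conv_lhs => rw [← h1, act_herm]
    exact herm_eq_zero_symm hF (hfr.orth i).2

theorem shift_surjective (hF : Fintype.card F = 2 ^ 2) (hfr : Frame e f g) :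
    Function.Surjective (shift hF hfr) := by
  intro m
  set y : Fin 4 → F := Multiplicative.toAdd m
  obtain ⟨d, hd⟩ := exists_eich_param (n := 6) hF (lin g y)
  obtain ⟨X, hX⟩ := exists_SU_eich (n := 6) hF hfr.hyp.1 (hfr.lin_orth y).1 hd
  refine ⟨⟨X, mem_QS_of_eich hF hfr.hyp.1 (hfr.lin_orth y).1 hX⟩, ?_⟩
  show Multiplicative.ofAdd (fun i => h⟪act X f, g i⟫) = Multiplicative.ofAdd y
  refine congrArg Multiplicative.ofAdd (funext fun i => ?_)
  show h⟪X.1.1 *ᵥ f, g i⟫ = y i
  rw [← suToGU_val, hX f, hfr.hyp.symm' hF]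
  simp [herm_add_left, herm_smul_left, herm_eq_zero_symm hF (hfr.orth i).1,
    herm_eq_zero_symm hF (hfr.orth i).2, lin, orthonormal_coeff hfr.on]

theorem card_QS (hF : Fintype.card F = 2 ^ 2) (hfr : Frame e f g) :
    Nat.card ↥(QS (q := 2) e) = 2 ^ 9 := by
  have hk : (shift hF hfr).ker = (RS (q := 2) e).subgroupOf (QS e) := by
    ext X
    rw [MonoidHom.mem_ker, shift_eq_one_iff, Subgroup.mem_subgroupOf]
  have h2 : Nat.card ↥(shift hF hfr).ker = 2 := by
    rw [hk, Nat.card_congr (Subgroup.subgroupOfEquivOfLe (RS_le_QS hfr.hyp.1)).toEquiv, card_RS hF hfr]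
  have h1 := Subgroup.card_eq_card_quotient_mul_card_subgroup (shift hF hfr).ker
  rw [Nat.card_congr (QuotientGroup.quotientKerEquivOfSurjective _ (shift_surjective hF hfr)).toEquiv,
    h2, Nat.card_congr Multiplicative.toAdd, Nat.card_fun, Nat.card_fin,
    Nat.card_eq_fintype_card (α := F), hF] at h1
  rw [h1]; norm_num

theorem sq_and_comm (hF : Fintype.card F = 2 ^ 2) (hfr : Frame e f g) (X Y : ↥(QS (q := 2) e)) :
    ((X * X : ↥(QS e)) : Cfsg.SU 6 F 2) ∈ RS e ∧
      ((X * Y * X⁻¹ * Y⁻¹ : ↥(QS e)) : Cfsg.SU 6 F 2) ∈ RS e := by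
  rw [← shift_eq_one_iff hF hfr, ← shift_eq_one_iff hF hfr]
  constructor
  · rw [map_mul]
    show Multiplicative.ofAdd (Multiplicative.toAdd (shift hF hfr X) + Multiplicative.toAdd (shift hF hfr X)) = 1
    rw [add_self_zero hF]; rfl
  · rw [map_mul, map_mul, map_mul, map_inv, map_inv, mul_inv_cancel_comm, mul_inv_cancel]

end Cfsg.Agent.Lib.UnitaryFour.PointStab
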