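import Mathlib
import Cfsg.Agent.Lib.UnitaryFour.Transvection

/-!
Extensions of projective unitary groups over the field of four elements by a central subgroup of
exponent two: every involution lifts to an involution.
-/

set_option autoImplicit false
set_option linter.unusedSectionVars false
set_option linter.style.haveILetI false

namespace Cfsg.Agent.Lib.UnitaryFour.Lifting

open Matrix Module Cfsg.Agent.Lib.Unitary Cfsg.Agent.Lib.UnitaryFour.Transvection
open scoped commutatorElement

variable {F : Type*} [Field F] [Fintype F] {n : ℕ}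

/-- the isotropic vector supported on coordinates `2i`, `2i+1` -/
def bvec (hn : 6 ≤ n) (i : Fin 3) : Fin n → F :=
  Pi.single (⟨2 * i.1, by omega⟩ : Fin n) 1 + Pi.single (⟨2 * i.1 + 1, by omega⟩ : Fin n) 1

theorem bvec_herm (hF : Fintype.card F = 2 ^ 2) (hn : 6 ≤ n) (i j : Fin 3) :
    hermForm n F 2 (bvec hn i) (bvec hn j) = 0 := by
  simp only [bvec, herm_add_left, herm_add_right _ _ _ hF, herm_std hF, Fin.mk.injEq]
  by_cases h : i = j
  · subst h
    simp [show 2 * i.1 + 1 ≠ 2 * i.1 by omega, show (1 : F) + 1 = 0 from add_self_zero hF 1]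
  · have : i.1 ≠ j.1 := fun h' => h (Fin.ext h')
    rw [if_neg (by omega), if_neg (by omega), if_neg (by omega), if_neg (by omega)]
    simp

theorem bvec_apply (hn : 6 ≤ n) (i j : Fin 3) :
    (bvec hn i : Fin n → F) ⟨2 * j.1, by omega⟩ = if i = j then 1 else 0 := by
  simp only [bvec, Pi.add_apply, Pi.single_apply, Fin.mk.injEq]
  by_cases h : i = j
  · subst h; simp
  · have : i.1 ≠ j.1 := fun h' => h (Fin.ext h')
    rw [if_neg (by omega), if_neg (by omega), if_neg h, add_zero]

theorem bvec_li (hn : 6 ≤ n) : LinearIndependent F (bvec (F := F) hn) := by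
  rw [Fintype.linearIndependent_iff]
  intro c hc i
  have := congrFun hc ⟨2 * i.1, by omega⟩
  simpa [Finset.sum_apply, bvec_apply, Finset.sum_ite_eq'] using this

section

variable {C Q : Type*} [Group C] [Group Q] (π : C →* Q) (φ : SU n F 2 →* Q)

theorem ker_central_conj (hker : ∀ x : C, π x = 1 → x * x = 1 ∧ ∀ y, x * y = y * x) {A B : C}
    (h : π A * π B = π B * π A) : ∀ g : C, g * ⁅A, B⁆ * g⁻¹ = ⁅A, B⁆ := by
  intro g
  have : π ⁅A, B⁆ = 1 := by
    simp [commutatorElement_def, h]
  rw [← (hker _ this).2 g, mul_inv_cancel_right]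

/-- lifts of orthogonal transvections commute -/
theorem lifts_commute (hF : Fintype.card F = 2 ^ 2) (hn : 6 ≤ n) (hπ : Function.Surjective π)
    (hker : ∀ x : C, π x = 1 → x * x = 1 ∧ ∀ y, x * y = y * x)
    {v w : Fin n → F} (hv : hermForm n F 2 v v = 0) (hw : hermForm n F 2 w w = 0)
    (hvw : hermForm n F 2 v w = 0) {A B : C} (hA : π A = φ (tv hF v hv)) (hB : π B = φ (tv hF w hw)) :
    Commute A B := by
  -- independence from the lifts
  have indep : ∀ (A A' B B' : C), π A = π A' → π B = π B' → ⁅A, B⁆ = ⁅A', B'⁆ := by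
    intro A A' B B' hA hB
    have h1 : π (A'⁻¹ * A) = 1 := by simp [hA]
    have h2 : π (B'⁻¹ * B) = 1 := by simp [hB]
    obtain ⟨-, h1c⟩ := hker _ h1
    obtain ⟨-, h2c⟩ := hker _ h2
    generalize ha : A'⁻¹ * A = a at h1c
    generalize hb : B'⁻¹ * B = b at h2c
    obtain rfl : A = A' * a := by rw [← ha]; group
    obtain rfl : B = B' * b := by rw [← hb]; group
    simp only [commutatorElement_def, _root_.mul_inv_rev]
    calc A' * a * (B' * b) * (a⁻¹ * A'⁻¹) * (b⁻¹ * B'⁻¹)
        = A' * (a * (B' * b)) * a⁻¹ * A'⁻¹ * (b⁻¹ * B'⁻¹) := by group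
      _ = A' * B' * (b * A'⁻¹) * (b⁻¹ * B'⁻¹) := by rw [h1c]; group
      _ = A' * B' * A'⁻¹ * B'⁻¹ := by rw [h2c]; group
  -- the reference pair
  obtain ⟨E, hE⟩ := hπ (φ (tv hF (bvec hn 2) (bvec_herm hF hn 2 2)))
  obtain ⟨E₀, hE₀⟩ := hπ (φ (tv hF (bvec hn 0) (bvec_herm hF hn 0 0)))
  have hcomm : π E * π E₀ = π E₀ * π E := by
    rw [hE, hE₀, ← map_mul, ← map_mul, (tv_comm hF _ _ (bvec_herm hF hn 2 0)).eq]
  have hκ1 : π ⁅E, E₀⁆ = 1 := by simp [commutatorElement_def, hcomm]
  have hκc := hker _ hκ1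
  -- all orthogonal independent pairs have the same commutator
  have uniform : ∀ (v w : Fin n → F) (hv : hermForm n F 2 v v = 0) (hw : hermForm n F 2 w w = 0),
      LinearIndependent F ![v, w] → hermForm n F 2 v w = 0 → ∀ A B : C, π A = φ (tv hF v hv) →
      π B = φ (tv hF w hw) → ⁅A, B⁆ = ⁅E, E₀⁆ := by
    intro v w hv hw hli hvw A B hA hB
    have hli₀ : LinearIndependent F ![bvec (F := F) hn 2, bvec hn 0] := by
      have := (bvec_li (F := F) hn).comp ![2, 0] (by decide)
      convert this using 1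
      ext i; fin_cases i <;> rfl
    obtain ⟨M, a, ha, hdet, hMe, hMs⟩ := exists_SU_isotropic_pair hF hli₀ (bvec_herm hF hn 2 2)
      (bvec_herm hF hn 0 0) (bvec_herm hF hn 2 0) hli hv hw hvw
    let g : SU n F 2 := ⟨⟨M.1.1, hdet⟩, M.2⟩
    obtain ⟨G, hG⟩ := hπ (φ g)
    have hav : hermForm n F 2 (a • v) (a • v) = 0 := by
      simp [herm_smul_left, herm_smul_right, hv]
    have e1 : π (G * E * G⁻¹) = π A := by
      rw [hA, map_mul, map_mul, map_inv, hG, hE, ← map_inv, ← map_mul, ← map_mul,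
        ← tv_conj hF g _ (show hermForm n F 2 (act g (bvec hn 2)) (act g (bvec hn 2)) = 0 by
          rw [act_herm]; exact bvec_herm hF hn 2 2)]
      rw [tv_eq_of_eq hF (show act g (bvec hn 2) = a • v from hMe) _ hav, tv_smul hF hv ha]
    have e2 : π (G * E₀ * G⁻¹) = π B := by
      rw [hB, map_mul, map_mul, map_inv, hG, hE₀, ← map_inv, ← map_mul, ← map_mul,
        ← tv_conj hF g _ (show hermForm n F 2 (act g (bvec hn 0)) (act g (bvec hn 0)) = 0 by
          rw [act_herm]; exact bvec_herm hF hn 0 0)]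
      rw [tv_eq_of_eq hF (show act g (bvec hn 0) = w from hMs) _ hw]
    rw [indep A (G * E * G⁻¹) B (G * E₀ * G⁻¹) e1.symm e2.symm, ← conjugate_commutatorElement]
    exact ker_central_conj π hker hcomm G
  -- the commutator is trivial, by the five points of a line
  have triv : ⁅E, E₀⁆ = 1 := by
    obtain ⟨o, ho0, ho1, ho⟩ := exists_omega hF
    have ho10 : o + 1 ≠ 0 := fun h => ho1 (by linear_combination h - two_eq_zero hF)
    let x : Fin n → F := bvec hn 0
    let y : Fin n → F := bvec hn 1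
    let z : Fin n → F := bvec hn 2
    have hx : hermForm n F 2 x x = 0 := bvec_herm hF hn 0 0
    have hy : hermForm n F 2 y y = 0 := bvec_herm hF hn 1 1
    have hxy : hermForm n F 2 x y = 0 := bvec_herm hF hn 0 1
    have hzx : hermForm n F 2 z x = 0 := bvec_herm hF hn 2 0
    have hzy : hermForm n F 2 z y = 0 := bvec_herm hF hn 2 1
    have hli : ∀ a b : F, (a, b) ≠ (0, 0) → LinearIndependent F ![z, a • x + b • y] := by
      intro a b hab
      rw [LinearIndependent.pair_iff]
      intro s t hst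
      have hl := Fintype.linearIndependent_iff.mp (bvec_li (F := F) hn) ![t * a, t * b, s] (by
        rw [Fin.sum_univ_three]
        simp only [Matrix.cons_val_zero, Matrix.cons_val_one, Matrix.cons_val_two, Matrix.head_cons,
          Matrix.tail_cons, Matrix.cons_val]
        rw [smul_add, smul_smul, smul_smul] at hst
        rw [← hst]; abel)
      have h0 : t * a = 0 := hl 0
      have h1 : t * b = 0 := hl 1
      refine ⟨hl 2, by_contra fun ht => hab ?_⟩
      rw [(mul_eq_zero.mp h0).resolve_left ht, (mul_eq_zero.mp h1).resolve_left ht]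
    have pair : ∀ (a b : F), (a, b) ≠ (0, 0) → ∀ (u : Fin n → F), u = a • x + b • y →
        ∀ (hu : hermForm n F 2 u u = 0) (U : C), π U = φ (tv hF u hu) → E * U = ⁅E, E₀⁆ * (U * E) := by
      intro a b hab u hue hu U hU
      rw [← uniform z u (bvec_herm hF hn 2 2) hu (hue ▸ hli a b hab) (by
        rw [hue, herm_add_right _ _ _ hF, herm_smul_right, herm_smul_right, hzx, hzy]; simp) E U hE hU,
        commutatorElement_def]
      group
    obtain ⟨L1, hL1⟩ := hπ (φ (tv hF y hy))
    obtain ⟨L2, hL2⟩ := hπ (φ (tv hF x hx))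
    obtain ⟨L3, hL3⟩ := hπ (φ (tv hF _ (herm_line hF hx hy hxy 1)))
    obtain ⟨L4, hL4⟩ := hπ (φ (tv hF _ (herm_line hF hx hy hxy o)))
    obtain ⟨L5, hL5⟩ := hπ (φ (tv hF _ (herm_line hF hx hy hxy (o + 1))))
    have p1 := pair 0 1 (by simp) y (by simp) hy L1 hL1
    have p2 := pair 1 0 (by simp) x (by simp) hx L2 hL2
    have p3 := pair 1 1 (by simp) _ (by simp) _ L3 hL3
    have p4 := pair 1 o (by simp) _ (by simp) _ L4 hL4
    have p5 := pair 1 (o + 1) (by simp) _ (by rw [one_smul]) _ L5 hL5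
    have hP : π (L1 * (L2 * (L3 * (L4 * L5)))) = 1 := by
      simp only [map_mul, hL1, hL2, hL3, hL4, hL5]
      rw [← map_mul, ← map_mul, ← map_mul, ← map_mul, tv_line hF hx hy hxy ho, map_one]
    have hP' := (hker _ hP).2 E
    generalize hk : ⁅E, E₀⁆ = κ at p1 p2 p3 p4 p5 hκc hκ1 ⊢
    have step : ∀ (U R : C) (k : ℕ), E * U = κ * (U * E) → E * R = κ ^ k * (R * E) →
        E * (U * R) = κ ^ (k + 1) * (U * R * E) := by
      intro U R k hU hR
      calc E * (U * R) = κ * (U * (E * R)) := by rw [← mul_assoc, hU]; group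
        _ = κ * (U * (κ ^ k * (R * E))) := by rw [hR]
        _ = κ * ((U * κ ^ k) * (R * E)) := by group
        _ = κ * (κ ^ k * U * (R * E)) := by
            rw [(show Commute κ U from hκc.2 U).pow_left k |>.eq]
        _ = _ := by rw [pow_succ']; group
    have h5 := step L1 _ 4 p1 (step L2 _ 3 p2 (step L3 _ 2 p3 (step L4 _ 1 p4 (by rw [pow_one]; exact p5))))
    rw [hP', eq_comm] at h5
    have h6 : κ ^ 5 = 1 := by
      have := mul_eq_right.mp h5
      exact this
    rw [show κ ^ 5 = (κ * κ) * (κ * κ) * κ by simp [pow_succ, mul_assoc], hκc.1, one_mul, one_mul] at h6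
    exact h6
  rw [← commutatorElement_eq_one_iff_commute]
  by_cases hli : LinearIndependent F ![v, w]
  · rw [uniform v w hv hw hli hvw A B hA hB, triv]
  · -- dependent centres: the same transvection or the identity
    by_cases hv0 : v = 0
    · subst hv0
      have : π A = π 1 := by rw [hA, tv_zero, map_one, map_one]
      rw [indep A 1 B B this rfl]; simp [commutatorElement_def]
    · rw [LinearIndependent.pair_iff' hv0] at hli
      push Not at hli
      obtain ⟨a, ha⟩ := hli
      by_cases ha0 : a = 0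
      · subst ha0
        rw [zero_smul] at ha; subst ha
        have : π B = π 1 := by rw [hB, tv_zero, map_one, map_one]
        rw [indep A A B 1 rfl this]; simp [commutatorElement_def]
      · subst ha
        have : π B = π A := by rw [hB, hA, tv_smul hF hv ha0]
        rw [indep A A B A rfl this]; simp [commutatorElement_def]

/-- lifts of transvections square to one -/
theorem lifts_sq (hF : Fintype.card F = 2 ^ 2) (hn : 6 ≤ n) (hπ : Function.Surjective π)
    (hker : ∀ x : C, π x = 1 → x * x = 1 ∧ ∀ y, x * y = y * x)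
    {v : Fin n → F} (hv : hermForm n F 2 v v = 0) {A : C} (hA : π A = φ (tv hF v hv)) : A * A = 1 := by
  obtain ⟨E, hE⟩ := hπ (φ (tv hF (bvec hn 0) (bvec_herm hF hn 0 0)))
  have indep : ∀ A A' : C, π A = π A' → A * A = A' * A' := by
    intro A A' h
    obtain ⟨h1, h2⟩ := hker (A'⁻¹ * A) (by simp [h])
    generalize ha : A'⁻¹ * A = a at h1 h2
    obtain rfl : A = A' * a := by rw [← ha]; group
    rw [(show Commute a A' from h2 A').mul_mul_mul_comm, h1, mul_one]
  have hσ1 : π (E * E) = 1 := by rw [map_mul, hE, ← map_mul, tv_mul_self, map_one]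
  have hσ := hker _ hσ1
  have uniform : ∀ (v : Fin n → F) (hv : hermForm n F 2 v v = 0), v ≠ 0 → ∀ A : C,
      π A = φ (tv hF v hv) → A * A = E * E := by
    intro v hv hv0 A hA
    have hb0 : bvec (F := F) hn 0 ≠ 0 := (bvec_li hn).ne_zero 0
    obtain ⟨M, hdet, hMe⟩ := exists_SU_isotropic hF (by omega) hb0 (bvec_herm hF hn 0 0) hv0 hv
    let g : SU n F 2 := ⟨⟨M.1.1, hdet⟩, M.2⟩
    obtain ⟨G, hG⟩ := hπ (φ g)
    have e1 : π (G * E * G⁻¹) = π A := by
      rw [hA, map_mul, map_mul, map_inv, hG, hE, ← map_inv, ← map_mul, ← map_mul,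
        ← tv_conj hF g _ (show hermForm n F 2 (act g (bvec hn 0)) (act g (bvec hn 0)) = 0 by
          rw [act_herm]; exact bvec_herm hF hn 0 0)]
      rw [tv_eq_of_eq hF (show act g (bvec hn 0) = v from hMe) _ hv]
    rw [indep A _ e1.symm]
    calc G * E * G⁻¹ * (G * E * G⁻¹) = G * (E * E) * G⁻¹ := by group
      _ = E * E := by rw [← hσ.2 G, mul_inv_cancel_right]
  by_cases hv0 : v = 0
  · subst hv0
    rw [indep A 1 (by rw [hA, tv_zero, map_one, map_one]), one_mul]
  rw [uniform v hv hv0 A hA]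
  obtain ⟨o, ho0, ho1, ho⟩ := exists_omega hF
  let x : Fin n → F := bvec hn 0
  let y : Fin n → F := bvec hn 1
  have hx : hermForm n F 2 x x = 0 := bvec_herm hF hn 0 0
  have hy : hermForm n F 2 y y = 0 := bvec_herm hF hn 1 1
  have hxy : hermForm n F 2 x y = 0 := bvec_herm hF hn 0 1
  have hyx : hermForm n F 2 y x = 0 := bvec_herm hF hn 1 0
  have hne : ∀ a : F, x + a • y ≠ 0 := by
    intro a h
    have h' := congrFun h ⟨0, by omega⟩
    have b0 := bvec_apply (F := F) hn 0 0
    have b1 := bvec_apply (F := F) hn 1 0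
    simp only [Fin.val_zero, Nat.mul_zero] at b0 b1
    simp [x, y, b0, b1] at h'
  obtain ⟨L1, hL1⟩ := hπ (φ (tv hF y hy))
  obtain ⟨L3, hL3⟩ := hπ (φ (tv hF _ (herm_line hF hx hy hxy 1)))
  obtain ⟨L4, hL4⟩ := hπ (φ (tv hF _ (herm_line hF hx hy hxy o)))
  obtain ⟨L5, hL5⟩ := hπ (φ (tv hF _ (herm_line hF hx hy hxy (o + 1))))
  have cm := fun {v w : Fin n → F} {A B : C} (hv : hermForm n F 2 v v = 0) (hw : hermForm n F 2 w w = 0)
    (hvw : hermForm n F 2 v w = 0) (hA : π A = φ (tv hF v hv)) (hB : π B = φ (tv hF w hw)) =>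
      lifts_commute π φ hF hn hπ hker hv hw hvw hA hB
  have hh : ∀ a b : F, hermForm n F 2 (x + a • y) (x + b • y) = 0 := by
    intro a b; simp [herm_add_left, herm_add_right _ _ _ hF, herm_smul_left, herm_smul_right, hx, hy, hxy, hyx]
  have hyl : ∀ b : F, hermForm n F 2 y (x + b • y) = 0 := by
    intro b; simp [herm_add_right _ _ _ hF, herm_smul_right, hy, hyx]
  have hxl : ∀ b : F, hermForm n F 2 x (x + b • y) = 0 := by
    intro b; simp [herm_add_right _ _ _ hF, herm_smul_right, hx, hxy]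
  have c45 : Commute L4 L5 := cm _ _ (hh o (o + 1)) hL4 hL5
  have c3 : Commute L3 (L4 * L5) := (cm _ _ (hh 1 o) hL3 hL4).mul_right (cm _ _ (hh 1 (o + 1)) hL3 hL5)
  have c2 : Commute E (L3 * (L4 * L5)) := (cm hx _ (hxl 1) hE hL3).mul_right
    ((cm hx _ (hxl o) hE hL4).mul_right (cm hx _ (hxl (o + 1)) hE hL5))
  have c1 : Commute L1 (E * (L3 * (L4 * L5))) := (cm hy hx hyx hL1 hE).mul_right
    ((cm hy _ (hyl 1) hL1 hL3).mul_right ((cm hy _ (hyl o) hL1 hL4).mul_right
      (cm hy _ (hyl (o + 1)) hL1 hL5)))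
  have hP : π (L1 * (E * (L3 * (L4 * L5)))) = 1 := by
    simp only [map_mul, hL1, hE, hL3, hL4, hL5]
    rw [← map_mul, ← map_mul, ← map_mul, ← map_mul, tv_line hF hx hy hxy ho, map_one]
  have h1 := (hker _ hP).1
  rw [c1.symm.mul_mul_mul_comm, c2.symm.mul_mul_mul_comm, c3.symm.mul_mul_mul_comm,
    c45.symm.mul_mul_mul_comm, uniform y hy ((bvec_li hn).ne_zero 1) L1 hL1,
    uniform _ _ (hne 1) L3 hL3, uniform _ _ (hne o) L4 hL4, uniform _ _ (hne (o + 1)) L5 hL5,
    show E * E * (E * E * (E * E * (E * E * (E * E)))) =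
      (E * E * (E * E)) * ((E * E * (E * E)) * (E * E)) by group,
    hσ.1, one_mul, one_mul] at h1
  exact h1

/-- products of pairwise commuting square-one elements square to one -/
theorem prod_mul_self_eq_one {M : Type*} [Monoid M] :
    ∀ l : List M, (∀ a ∈ l, a * a = 1) → (∀ a ∈ l, ∀ b ∈ l, Commute a b) → l.prod * l.prod = 1 := by
  intro l
  induction l with
  | nil => simp
  | cons a l ih =>
    intro h1 h2
    have hc : Commute a l.prod := Commute.list_prod_right _ _ (fun b hb =>
      h2 a List.mem_cons_self b (List.mem_cons_of_mem _ hb))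
    rw [List.prod_cons, hc.symm.mul_mul_mul_comm, h1 a List.mem_cons_self,
      ih (fun x hx => h1 x (List.mem_cons_of_mem _ hx))
        (fun x hx y hy => h2 x (List.mem_cons_of_mem _ hx) y (List.mem_cons_of_mem _ hy)), one_mul]

/-- every involution of the quotient lifts to an involution -/
theorem exists_lift_sq_one (hF : Fintype.card F = 2 ^ 2) (hn : 6 ≤ n) (hπ : Function.Surjective π)
    (hker : ∀ x : C, π x = 1 → x * x = 1 ∧ ∀ y, x * y = y * x)
    (hφ : Function.Surjective φ) (hφk : φ.ker ≤ Subgroup.center (SU n F 2))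
    (x : Q) (hx : x * x = 1) : ∃ y : C, y * y = 1 ∧ π y = x := by
  obtain ⟨t₀, rfl⟩ := hφ x
  have hz : t₀ * t₀ ∈ Subgroup.center (SU n F 2) := hφk (by rw [MonoidHom.mem_ker, map_mul, hx])
  -- the central element has odd order
  obtain ⟨k, hk | hk⟩ := Nat.even_or_odd' (orderOf (t₀ * t₀))
  · exfalso
    have hpos := orderOf_pos (t₀ * t₀)
    have hne : (t₀ * t₀) ^ k ≠ 1 := pow_ne_one_of_lt_orderOf (by omega) (by omega)
    refine hne (eq_one_of_comm_tv hF (by omega) (by rw [← pow_add, ← two_mul, ← hk, pow_orderOf_eq_one])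
      fun w hw => ?_)
    exact Commute.pow_left (show Commute (t₀ * t₀) (tv hF w hw) from
      (Subgroup.mem_center_iff.mp hz (tv hF w hw)).symm) k
  · set t := t₀ ^ (2 * k + 1) with ht
    have htt : t * t = 1 := by
      rw [ht, ← (Commute.refl t₀).mul_pow, ← hk, pow_orderOf_eq_one]
    have hφt : φ t = φ t₀ := by
      rw [ht, map_pow, pow_succ, pow_mul, sq, hx, one_pow, one_mul]
    obtain ⟨l, -, hl2, hl3⟩ := exists_decomp hF t htt
    have hlift : ∀ a : {w : Fin n → F // hermForm n F 2 w w = 0}, ∃ A : C, π A = φ (tv hF a.1 a.2) :=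
      fun a => hπ _
    choose L hL using hlift
    refine ⟨(l.map L).prod, prod_mul_self_eq_one _ ?_ ?_, ?_⟩
    · intro A hA
      obtain ⟨a, -, rfl⟩ := List.mem_map.mp hA
      exact lifts_sq π φ hF hn hπ hker a.2 (hL a)
    · intro A hA B hB
      obtain ⟨a, ha, rfl⟩ := List.mem_map.mp hA
      obtain ⟨b, hb, rfl⟩ := List.mem_map.mp hB
      exact lifts_commute π φ hF hn hπ hker a.2 b.2 (hl2 a ha b hb) (hL a) (hL b)
    · rw [← hφt, hl3, map_list_prod, map_list_prod, List.map_map, List.map_map]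
      exact congrArg List.prod (List.map_congr_left fun a _ => hL a)

end

end Cfsg.Agent.Lib.UnitaryFour.Lifting
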